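import Groth.Agent.ResProp.EF.K980.BC
import Mathlib.RingTheory.IsTensorProduct
import Mathlib.LinearAlgebra.Basis.Basic

/-!
# Base change of algebras and of modules over algebras (for `K980.BC`)

`BC x A` is an `R'`-algebra for an `R`-algebra `A`; `BC x M` is a `BC x A`-module for an `A`-module `M`.
-/

set_option autoImplicit false

universe u v w

open TensorProduct

namespace Groth.Agent.ResProp.EF.K980

section Ring

variable {R : Type u} {R' : Type v} [CommRing R] [CommRing R'] (x : R →+* R') (A : Type w) [CommRing A] [Algebra R A]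

noncomputable instance : CommRing (BC x A) := inferInstanceAs (CommRing (Al x ⊗[R] A))

noncomputable instance : Algebra R' (BC x A) := inferInstanceAs (Algebra R' (Al x ⊗[R] A))

variable {A}

namespace BC

variable {x}

theorem bc_mul (a b : A) : bc x (a * b) = bc x a * bc x b := by
  show (1 : Al x) ⊗ₜ[R] (a * b) = ((1 : Al x) ⊗ₜ[R] a) * ((1 : Al x) ⊗ₜ[R] b)
  rw [Algebra.TensorProduct.tmul_mul_tmul, mul_one]

theorem bc_one : bc x (1 : A) = 1 := rfl

theorem bc_algebraMap (r : R) : bc x (algebraMap R A r) = algebraMap R' (BC x A) (x r) := by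
  rw [Algebra.algebraMap_eq_smul_one r, LinearMap.map_smulₛₗ, bc_one, Algebra.algebraMap_eq_smul_one]

variable (x) in
/-- `bc` as a ring homomorphism -/
noncomputable def bcHom : A →+* BC x A where
  toFun := bc x
  map_one' := bc_one
  map_mul' := bc_mul
  map_zero' := map_zero _
  map_add' := map_add _

@[simp] theorem bcHom_apply (a : A) : bcHom x a = bc x a := rfl

variable {B : Type*} [CommRing B] [Algebra R B]

/-- the universal property of the base change of algebras -/
noncomputable def liftAlg {S : Type*} [CommRing S] [Algebra R' S] (φ : A →+* S)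
    (h : ∀ r, φ (algebraMap R A r) = algebraMap R' S (x r)) : BC x A →ₐ[R'] S :=
  let F : BC x A →ₗ[R'] S := lift (σ := RingHom.id R') (τ := x) (RingHom.id_comp x)
    { toFun := φ
      map_add' := map_add φ
      map_smul' := fun r a => by rw [Algebra.smul_def, map_mul, h, ← Algebra.smul_def] }
  have hF : ∀ a, F (bc x a) = φ a := fun a => lift_bc _ _ a
  AlgHom.ofLinearMap F (by rw [← bc_one, hF, map_one]) (fun a b => by
    induction a using ind with
    | h0 => rw [zero_mul, map_zero, zero_mul]
    | h2 a b ha hb => rw [add_mul, map_add, map_add, ha, hb, add_mul]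
    | h1 r a =>
      induction b using ind with
      | h0 => rw [mul_zero, map_zero, mul_zero]
      | h2 a b ha hb => rw [mul_add, map_add, map_add, ha, hb, mul_add]
      | h1 s b =>
        rw [smul_mul_smul_comm, ← bc_mul, map_smul, map_smul, map_smul, hF, hF, hF, map_mul, smul_mul_smul_comm])

@[simp] theorem liftAlg_bc {S : Type*} [CommRing S] [Algebra R' S] (φ : A →+* S)
    (h : ∀ r, φ (algebraMap R A r) = algebraMap R' S (x r)) (a : A) : liftAlg φ h (bc x a) = φ a :=
  lift_bc (RingHom.id_comp x) _ a

theorem algHom_ext {S : Type*} [CommRing S] [Algebra R' S] {f g : BC x A →ₐ[R'] S}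
    (h : ∀ a, f (bc x a) = g (bc x a)) : f = g := by
  have : f.toLinearMap = g.toLinearMap := hom_ext h
  exact AlgHom.toLinearMap_injective this

variable (x) in
/-- functoriality -/
noncomputable def mapAlg (g : A →ₐ[R] B) : BC x A →ₐ[R'] BC x B :=
  liftAlg ((bcHom x).comp g.toRingHom) fun r => by
    rw [← bc_algebraMap (A := B)]
    exact congrArg (bc x) (g.commutes r)

@[simp] theorem mapAlg_bc (g : A →ₐ[R] B) (a : A) : mapAlg x g (bc x a) = bc x (g a) := liftAlg_bc _ _ a

theorem mapAlg_eq_map (g : A →ₐ[R] B) (z : BC x A) : mapAlg x g z = map x g.toLinearMap z := by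
  have : (mapAlg x g).toLinearMap = map x g.toLinearMap := hom_ext fun a => by simp
  exact LinearMap.congr_fun this z

end BC

end Ring

section Tr

variable {R : Type u} {R' : Type v} {R'' : Type w} [CommRing R] [CommRing R'] [CommRing R'']
  {x : R →+* R'} {x' : R →+* R''} {f : R' →+* R''} {A : Type*} [CommRing A] [Algebra R A]

theorem BC.tr_mul (hx : f.comp x = x') (a b : BC x A) : BC.tr f hx (a * b) = BC.tr f hx a * BC.tr f hx b := by
  induction a using BC.ind with
  | h0 => rw [zero_mul, map_zero, zero_mul]
  | h2 a b ha hb => rw [add_mul, map_add, map_add, ha, hb, add_mul]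
  | h1 r a =>
    induction b using BC.ind with
    | h0 => rw [mul_zero, map_zero, mul_zero]
    | h2 a b ha hb => rw [mul_add, map_add, map_add, ha, hb, mul_add]
    | h1 s b =>
      rw [smul_mul_smul_comm, ← BC.bc_mul, LinearMap.map_smulₛₗ, LinearMap.map_smulₛₗ, LinearMap.map_smulₛₗ, BC.tr_bc,
        BC.tr_bc, BC.tr_bc, BC.bc_mul, smul_mul_smul_comm, map_mul]

theorem BC.tr_one (hx : f.comp x = x') : BC.tr f hx (1 : BC x A) = 1 := by
  rw [← BC.bc_one, BC.tr_bc, BC.bc_one]

/-- `tr` as a ring homomorphism -/
noncomputable def BC.trHom (f : R' →+* R'') (hx : f.comp x = x') : BC x A →+* BC x' A where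
  toFun := BC.tr f hx
  map_one' := BC.tr_one hx
  map_mul' := BC.tr_mul hx
  map_zero' := map_zero _
  map_add' := map_add _

@[simp] theorem BC.trHom_apply (hx : f.comp x = x') (a : BC x A) : BC.trHom f hx a = BC.tr f hx a := rfl

end Tr

section Mod

variable {R : Type u} {R' : Type v} [CommRing R] [CommRing R'] (x : R →+* R') (A : Type w) [CommRing A] [Algebra R A]
  (M : Type*) [AddCommGroup M] [Module R M] [Module A M] [IsScalarTower R A M]

/-- the action of `BC x A` on `BC x M` -/
noncomputable def BC.act : BC x A →ₗ[R'] BC x M →ₗ[R'] BC x M :=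
  BC.bil x (Algebra.lsmul R R M : A →ₐ[R] Module.End R M).toLinearMap

variable {A M}

theorem BC.act_bc (a : A) (m : M) : BC.act x A M (bc x a) (bc x m) = bc x (a • m) := BC.bil_bc _ _ _

noncomputable instance (priority := low) BC.module : Module (BC x A) (BC x M) where
  smul a m := BC.act x A M a m
  one_smul m := by
    show BC.act x A M 1 m = m
    induction m using BC.ind with
    | h0 => rw [map_zero]
    | h1 r m => rw [map_smul, ← BC.bc_one, BC.act_bc, one_smul]
    | h2 a b ha hb => rw [map_add, ha, hb]
  mul_smul a b m := by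
    show BC.act x A M (a * b) m = BC.act x A M a (BC.act x A M b m)
    induction a using BC.ind with
    | h0 => rw [zero_mul, map_zero, LinearMap.zero_apply, LinearMap.zero_apply]
    | h2 a a' ha hb => rw [add_mul, map_add, map_add, LinearMap.add_apply, LinearMap.add_apply, ha, hb]
    | h1 r a =>
      rw [smul_mul_assoc, map_smul, map_smul, LinearMap.smul_apply, LinearMap.smul_apply]
      congr 1
      induction b using BC.ind with
      | h0 => rw [mul_zero, map_zero, LinearMap.zero_apply, map_zero]
      | h2 b b' ha hb => rw [mul_add, map_add, map_add, LinearMap.add_apply, LinearMap.add_apply, ha, hb, map_add]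
      | h1 s b =>
        rw [mul_smul_comm, map_smul, map_smul, LinearMap.smul_apply, LinearMap.smul_apply, map_smul]
        congr 1
        induction m using BC.ind with
        | h0 => rw [map_zero, map_zero, map_zero]
        | h2 m m' ha hb => rw [map_add, map_add, map_add, ha, hb]
        | h1 t m => rw [map_smul, map_smul, map_smul, ← BC.bc_mul, BC.act_bc, BC.act_bc, BC.act_bc, mul_smul]
  smul_zero a := map_zero _
  smul_add a m m' := map_add _ _ _
  add_smul a b m := by
    show BC.act x A M (a + b) m = BC.act x A M a m + BC.act x A M b m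
    rw [map_add, LinearMap.add_apply]
  zero_smul m := by
    show BC.act x A M 0 m = 0
    rw [map_zero, LinearMap.zero_apply]

theorem BC.smul_def (a : BC x A) (m : BC x M) : a • m = BC.act x A M a m := rfl

variable {x} in
theorem BC.bc_smul (a : A) (m : M) : bc x (a • m) = bc x a • bc x m := (BC.act_bc x a m).symm

instance BC.isScalarTower : IsScalarTower R' (BC x A) (BC x M) := ⟨fun r a m => by
  rw [BC.smul_def, BC.smul_def, map_smul, LinearMap.smul_apply]⟩

instance BC.isScalarTower' {B : Type*} [CommRing B] [Algebra R B] : IsScalarTower R' (BC x B) (BC x B) :=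
  inferInstance

end Mod

end Groth.Agent.ResProp.EF.K980
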