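import Groth.Agent.ResProp.EF.K964.Fil
import Mathlib.RingTheory.TensorProduct.MvPolynomial
import Mathlib.RingTheory.TensorProduct.IsBaseChangePi
import Mathlib.RingTheory.Flat.IsBaseChange
import Mathlib.Algebra.MvPolynomial.PDeriv

/-!
# Flat base change of `J`, `J2` and `Fil`

`R → R₁` flat, `D₁ = R₁ ⊗ D`, `f : R[X_i] → D`, `f₁ : R₁[X_i] → D₁` its base change: the ideals `J = ker f`,
`J2 = {z ∈ J : ∂_i z ∈ J for all i}` and `Fil n = ∑ J^a J2^b`, `a + 2b ≥ n`, of `f₁` are generated by those of `f`.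
-/

set_option autoImplicit false
set_option linter.dupNamespace false
set_option linter.style.haveILetI false

universe u v w w'

namespace K964.Fil

open MvPolynomial

section Ker

variable {R : Type*} [CommRing R] (S : Type*) [CommRing S] [Algebra R S] [Module.Flat R S]
  {M N M₁ N₁ : Type*} [AddCommGroup M] [AddCommGroup N] [AddCommGroup M₁] [AddCommGroup N₁]
  [Module R M] [Module R N] [Module R M₁] [Module R N₁] [Module S M₁] [Module S N₁]
  [IsScalarTower R S M₁] [IsScalarTower R S N₁] {i : M →ₗ[R] M₁} {j : N →ₗ[R] N₁}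
  {g : M →ₗ[R] N} {g₁ : M₁ →ₗ[S] N₁}

/-- the kernel of a flat base change is generated by the kernel -/
theorem ker_eq_span (hi : IsBaseChange S i) (hj : IsBaseChange S j) (comm : ∀ m, g₁ (i m) = j (g m)) :
    LinearMap.ker g₁ = Submodule.span S (i '' (LinearMap.ker g : Set M)) := by
  have hmem : ∀ m : LinearMap.ker g, i m ∈ LinearMap.ker g₁ := fun m => by
    rw [LinearMap.mem_ker, comm, LinearMap.mem_ker.1 m.2, map_zero]
  let h₁ : LinearMap.ker g →ₗ[R] LinearMap.ker g₁ :=
    { toFun := fun m => ⟨i m, hmem m⟩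
      map_add' := fun x y => Subtype.ext (map_add i _ _)
      map_smul' := fun r x => Subtype.ext (map_smul i r _) }
  have hb : IsBaseChange S h₁ := IsBaseChange.of_left_exact S h₁ i j
    (f := (LinearMap.ker g).subtype) (g := g) (f' := (LinearMap.ker g₁).subtype) (g' := g₁)
    rfl (LinearMap.ext fun m => (comm m).symm) hi hj
    (LinearMap.exact_subtype_ker_map g) (Submodule.injective_subtype _)
    (LinearMap.exact_subtype_ker_map g₁) (Submodule.injective_subtype _)
  apply le_antisymm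
  · intro x hx
    have key : ∀ y : LinearMap.ker g₁, (y : M₁) ∈ Submodule.span S (i '' (LinearMap.ker g : Set M)) := by
      intro y
      refine hb.inductionOn y _ (Submodule.zero_mem _) (fun m => Submodule.subset_span ⟨m, m.2, rfl⟩)
        (fun s y hy => ?_) (fun y z hy hz => ?_)
      · exact Submodule.smul_mem _ _ hy
      · exact Submodule.add_mem _ hy hz
    exact key ⟨x, hx⟩
  · rw [Submodule.span_le]
    rintro _ ⟨m, hm, rfl⟩
    exact hmem ⟨m, hm⟩

end Ker

section Poly

variable {R : Type u} [CommRing R] {σ : Type w} {D : Type v} [CommRing D] [Algebra R D]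

/-- `{z ∈ J : ∂_i z ∈ J for all i}`, `J = ker f` -/
def J2p (f : MvPolynomial σ R →ₐ[R] D) : Ideal (MvPolynomial σ R) where
  carrier := {z | f z = 0 ∧ ∀ i, f (pderiv i z) = 0}
  add_mem' := fun {a b} ha hb => ⟨by rw [map_add, ha.1, hb.1, add_zero], fun i => by
    rw [map_add, map_add, ha.2, hb.2, add_zero]⟩
  zero_mem' := ⟨map_zero f, fun i => by rw [map_zero, map_zero]⟩
  smul_mem' := fun c z hz => ⟨by rw [smul_eq_mul, map_mul, hz.1, mul_zero], fun i => by
    rw [smul_eq_mul, Derivation.leibniz, map_add, smul_eq_mul, smul_eq_mul, map_mul, map_mul, hz.1, hz.2, mul_zero,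
      zero_mul, add_zero]⟩

theorem mem_J2p {f : MvPolynomial σ R →ₐ[R] D} {z : MvPolynomial σ R} :
    z ∈ J2p f ↔ f z = 0 ∧ ∀ i, f (pderiv i z) = 0 := Iff.rfl

/-- for a polynomial ring `J2` is given by the partial derivatives -/
theorem J2_ker (f : MvPolynomial σ R →ₐ[R] D) : J2 R (RingHom.ker f) = J2p f := by
  have key : ∀ ω : Ω[MvPolynomial σ R⁄R], ω ∈ RingHom.ker f • (⊤ : Submodule (MvPolynomial σ R) Ω[MvPolynomial σ R⁄R]) ↔
      ∀ i, (KaehlerDifferential.mvPolynomialBasis R σ).repr ω i ∈ RingHom.ker f := by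
    intro ω
    constructor
    · intro h i
      induction h using Submodule.smul_induction_on' with
      | smul r hr n hn =>
        rw [map_smul, Finsupp.smul_apply, smul_eq_mul]
        exact Ideal.mul_mem_right _ _ hr
      | add x _ y _ hx hy =>
        rw [map_add, Finsupp.add_apply]
        exact Ideal.add_mem _ hx hy
    · intro h
      rw [← (KaehlerDifferential.mvPolynomialBasis R σ).linearCombination_repr ω, Finsupp.linearCombination_apply]
      exact Submodule.sum_mem _ fun i _ => Submodule.smul_mem_smul (h i) trivial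
  ext z
  rw [mem_J2, mem_J2p, key, RingHom.mem_ker]
  simp only [KaehlerDifferential.mvPolynomialBasis_repr_apply, RingHom.mem_ker]

/-- the filtration of `f : R[X_i] → D` -/
noncomputable abbrev Filp (f : MvPolynomial σ R →ₐ[R] D) (n : ℕ) : Ideal (MvPolynomial σ R) :=
  Fil R (RingHom.ker f) n

theorem Filp_eq (f : MvPolynomial σ R →ₐ[R] D) (n : ℕ) :
    Filp f n = ⨆ (p : ℕ × ℕ) (_ : n ≤ p.1 + 2 * p.2), RingHom.ker f ^ p.1 * J2p f ^ p.2 := by
  rw [Filp, Fil, J2_ker]

end Poly

section BC

variable {R : Type u} [CommRing R] {R₁ : Type w'} [CommRing R₁] [Algebra R R₁]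
  {σ : Type w} {D : Type v} [CommRing D] [Algebra R D] {D₁ : Type*} [CommRing D₁] [Algebra R D₁] [Algebra R₁ D₁]
  [IsScalarTower R R₁ D₁]
  {f : MvPolynomial σ R →ₐ[R] D} {f₁ : MvPolynomial σ R₁ →ₐ[R₁] D₁} {h : D →ₐ[R] D₁}

/-- the coefficient map -/
theorem isBaseChange_map (R : Type u) [CommRing R] (R₁ : Type w') [CommRing R₁] [Algebra R R₁] (σ : Type w) :
    IsBaseChange R₁ ((MvPolynomial.mapAlgHom (σ := σ) (Algebra.ofId R R₁)).toLinearMap) := by
  refine IsBaseChange.of_equiv (MvPolynomial.algebraTensorAlgEquiv R R₁ (σ := σ)).toLinearEquiv fun x => ?_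
  rw [AlgEquiv.toLinearEquiv_apply, MvPolynomial.algebraTensorAlgEquiv_tmul, one_smul]
  rfl

theorem comm_apply (comm : ∀ i, f₁ (X i) = h (f (X i))) (z : MvPolynomial σ R) :
    f₁ (MvPolynomial.map (algebraMap R R₁) z) = h (f z) := by
  induction z using MvPolynomial.induction_on with
  | C a =>
    rw [MvPolynomial.map_C, ← MvPolynomial.algebraMap_eq, ← MvPolynomial.algebraMap_eq, AlgHom.commutes, AlgHom.commutes,
      AlgHom.commutes, ← IsScalarTower.algebraMap_apply]
  | add p q hp hq => rw [map_add, map_add, map_add, map_add, hp, hq]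
  | mul_X p i hp => rw [map_mul, map_mul, map_mul, map_mul, hp, MvPolynomial.map_X, comm]

theorem ker_map [Module.Flat R R₁] (hb : IsBaseChange R₁ h.toLinearMap) (comm : ∀ i, f₁ (X i) = h (f (X i))) :
    RingHom.ker f₁ = (RingHom.ker f).map (MvPolynomial.map (algebraMap R R₁)) := by
  have h1 := ker_eq_span R₁ (isBaseChange_map R R₁ σ) hb (g := f.toLinearMap) (g₁ := f₁.toLinearMap)
    (fun m => comm_apply comm m)
  apply le_antisymm
  · intro x hx
    have h2 : x ∈ LinearMap.ker f₁.toLinearMap := hx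
    rw [h1] at h2
    have h3 : Submodule.span R₁ ((MvPolynomial.mapAlgHom (σ := σ) (Algebra.ofId R R₁)).toLinearMap ''
        (LinearMap.ker f.toLinearMap : Set (MvPolynomial σ R))) ≤
        ((RingHom.ker f).map (MvPolynomial.map (algebraMap R R₁))).restrictScalars R₁ := by
      rw [Submodule.span_le]
      rintro _ ⟨m, hm, rfl⟩
      exact Ideal.mem_map_of_mem _ hm
    exact h3 h2
  · rw [Ideal.map_le_iff_le_comap]
    intro z hz
    rw [Ideal.mem_comap, RingHom.mem_ker, comm_apply comm, (RingHom.mem_ker).1 hz, map_zero]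

theorem J2p_map [Module.Flat R R₁] [Finite σ] (hb : IsBaseChange R₁ h.toLinearMap)
    (comm : ∀ i, f₁ (X i) = h (f (X i))) :
    J2p f₁ = (J2p f).map (MvPolynomial.map (algebraMap R R₁)) := by
  have hd : ∀ (i : σ) (z : MvPolynomial σ R), pderiv i (MvPolynomial.map (algebraMap R R₁) z) =
      MvPolynomial.map (algebraMap R R₁) (pderiv i z) := fun i z => MvPolynomial.pderiv_map
  let g : MvPolynomial σ R →ₗ[R] D × (σ → D) :=
    LinearMap.prod f.toLinearMap (LinearMap.pi fun i => f.toLinearMap ∘ₗ (pderiv i).toLinearMap)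
  let g₁ : MvPolynomial σ R₁ →ₗ[R₁] D₁ × (σ → D₁) :=
    LinearMap.prod f₁.toLinearMap (LinearMap.pi fun i => f₁.toLinearMap ∘ₗ (pderiv i).toLinearMap)
  have h1 := ker_eq_span R₁ (isBaseChange_map R R₁ σ)
    (IsBaseChange.prodMap h.toLinearMap (h.toLinearMap.compLeft σ) hb (IsBaseChange.finitePow σ hb)) (g := g) (g₁ := g₁)
    (fun m => Prod.ext (comm_apply comm m) (funext fun i => by
      change f₁ (pderiv i (MvPolynomial.map (algebraMap R R₁) m)) = h (f (pderiv i m))
      rw [hd, comm_apply comm]))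
  have hg : ∀ z, z ∈ LinearMap.ker g ↔ z ∈ J2p f := fun z => by
    rw [LinearMap.mem_ker, mem_J2p]
    exact Prod.ext_iff.trans (and_congr Iff.rfl funext_iff)
  have hg₁ : ∀ z, z ∈ LinearMap.ker g₁ ↔ z ∈ J2p f₁ := fun z => by
    rw [LinearMap.mem_ker, mem_J2p]
    exact Prod.ext_iff.trans (and_congr Iff.rfl funext_iff)
  apply le_antisymm
  · intro x hx
    have h2 : x ∈ LinearMap.ker g₁ := (hg₁ x).2 hx
    rw [h1] at h2
    have h3 : Submodule.span R₁ ((MvPolynomial.mapAlgHom (σ := σ) (Algebra.ofId R R₁)).toLinearMap ''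
        (LinearMap.ker g : Set (MvPolynomial σ R))) ≤
        ((J2p f).map (MvPolynomial.map (algebraMap R R₁))).restrictScalars R₁ := by
      rw [Submodule.span_le]
      rintro _ ⟨m, hm, rfl⟩
      exact Ideal.mem_map_of_mem _ ((hg m).1 hm)
    exact h3 h2
  · rw [Ideal.map_le_iff_le_comap]
    intro z hz
    rw [Ideal.mem_comap, mem_J2p, comm_apply comm, hz.1, map_zero]
    refine ⟨rfl, fun i => ?_⟩
    rw [hd, comm_apply comm, hz.2, map_zero]

/-- `Fil n` of a flat base change is generated by `Fil n` -/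
theorem Filp_map [Module.Flat R R₁] [Finite σ] (hb : IsBaseChange R₁ h.toLinearMap)
    (comm : ∀ i, f₁ (X i) = h (f (X i))) (n : ℕ) :
    Filp f₁ n = (Filp f n).map (MvPolynomial.map (algebraMap R R₁)) := by
  rw [Filp_eq, Filp_eq, ker_map hb comm, J2p_map hb comm]
  simp only [Ideal.map_iSup, Ideal.map_mul, Ideal.map_pow]

end BC

end K964.Fil
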