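import Mathlib.RingTheory.Kaehler.Basic
import Mathlib.RingTheory.FiniteType
import Mathlib.LinearAlgebra.Basis.Prod
import Mathlib.LinearAlgebra.FreeModule.Basic
import Mathlib.Algebra.MvPolynomial.Basic
import Mathlib.RingTheory.Finiteness.Basic

/-!
# Models exist after adding a free module

`D` an `R`-algebra of finite type, `V` finite free over `D` with a surjection `ρ : V → Ω_{D/R}`. After adding a free
module `D^s` (with the zero map to `Ω`) to `V` there is a polynomial ring `R[X_1, .., X_M] → D` with
`Ω_{R[X]} ⊗ D = V × D^s` over `Ω_{D/R}`.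
-/

set_option autoImplicit false

universe u v w

namespace K964.Fil

open MvPolynomial

variable {R : Type u} [CommRing R] {D : Type v} [CommRing D] [Algebra R D]

/-- the differentials of generators span -/
theorem span_D_eq_top {s : Set D} (hs : Algebra.adjoin R s = ⊤) :
    Submodule.span D (KaehlerDifferential.D R D '' s) = ⊤ := by
  rw [eq_top_iff, ← KaehlerDifferential.span_range_derivation, Submodule.span_le]
  rintro _ ⟨x, rfl⟩
  have hx : x ∈ Algebra.adjoin R s := by rw [hs]; trivial
  induction hx using Algebra.adjoin_induction with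
  | mem x hx => exact Submodule.subset_span ⟨x, hx, rfl⟩
  | algebraMap r => rw [Derivation.map_algebraMap]; exact Submodule.zero_mem _
  | add x y _ _ hx hy => rw [map_add]; exact Submodule.add_mem _ hx hy
  | mul x y _ _ hx hy =>
    rw [Derivation.leibniz]
    exact Submodule.add_mem _ (Submodule.smul_mem _ _ hy) (Submodule.smul_mem _ _ hx)

/-- the automorphism of Schanuel's lemma -/
def schanuel {V U : Type*} [AddCommGroup V] [Module D V] [AddCommGroup U] [Module D U]
    (p : U →ₗ[D] V) (q : V →ₗ[D] U) : (V × U) ≃ₗ[D] (V × U) where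
  toFun z := (z.1 + p (z.2 - q z.1), z.2 - q z.1)
  map_add' x y := by
    ext
    · simp only [Prod.fst_add, Prod.snd_add, map_add, map_sub]; abel
    · simp only [Prod.fst_add, Prod.snd_add, map_add]; abel
  map_smul' c x := by
    ext
    · simp only [Prod.smul_fst, Prod.smul_snd, map_sub, map_smul, RingHom.id_apply, smul_add, smul_sub]
    · simp only [Prod.smul_fst, Prod.smul_snd, map_smul, RingHom.id_apply, smul_sub]
  invFun z := (z.1 - p z.2, z.2 + q (z.1 - p z.2))
  left_inv z := by
    ext
    · simp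
    · simp
  right_inv z := by
    ext
    · simp
    · simp

/-- **models exist** after adding a free module to `V` -/
theorem exists_model [Algebra.FiniteType R D] {r : ℕ} {V : Type w} [AddCommGroup V] [Module D V]
    (b₀ : Module.Basis (Fin r) D V) (ρ : V →ₗ[D] Ω[D⁄R]) (hρ : Function.Surjective ρ) :
    ∃ (s M : ℕ) (f : MvPolynomial (Fin M) R →ₐ[R] D) (b : Module.Basis (Fin M) D (V × (Fin s → D))),
      Function.Surjective f ∧ ∀ i, ρ (b i).1 = KaehlerDifferential.D R D (f (X i)) := by
  classical
  obtain ⟨S, hS⟩ := (Algebra.FiniteType.out : (⊤ : Subalgebra R D).FG)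
  obtain ⟨s, ⟨e⟩⟩ : ∃ s, Nonempty (Fin s ≃ S) := ⟨S.card, ⟨S.equivFin.symm⟩⟩
  let g : Fin s → D := fun i => (e i : D)
  have hg : Set.range g = (S : Set D) := by
    ext x
    constructor
    · rintro ⟨i, rfl⟩; exact (e i).2
    · intro hx; exact ⟨e.symm ⟨x, hx⟩, by simp [g]⟩
  let bs : Module.Basis (Fin s) D (Fin s → D) := Pi.basisFun D (Fin s)
  let a : (Fin s → D) →ₗ[D] Ω[D⁄R] := bs.constr D fun i => KaehlerDifferential.D R D (g i)
  have ha : ∀ i, a (bs i) = KaehlerDifferential.D R D (g i) := fun i => bs.constr_basis D _ i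
  have hasurj : Function.Surjective a := by
    rw [← LinearMap.range_eq_top, eq_top_iff, ← span_D_eq_top (R := R) (s := (S : Set D)) hS, Submodule.span_le]
    rintro _ ⟨x, hx, rfl⟩
    rw [← hg] at hx
    obtain ⟨i, rfl⟩ := hx
    exact ⟨bs i, ha i⟩
  choose up hup using fun i => hρ (a (bs i))
  choose vq hvq using fun j => hasurj (ρ (b₀ j))
  let p : (Fin s → D) →ₗ[D] V := bs.constr D up
  let q : V →ₗ[D] (Fin s → D) := b₀.constr D vq
  have hp : ∀ x, ρ (p x) = a x := by
    intro x
    have : ρ ∘ₗ p = a := bs.ext fun i => by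
      rw [LinearMap.comp_apply, show p (bs i) = up i from bs.constr_basis D _ i, hup]
    exact LinearMap.congr_fun this x
  have hq : ∀ x, a (q x) = ρ x := by
    intro x
    have : a ∘ₗ q = ρ := b₀.ext fun i => by
      rw [LinearMap.comp_apply, show q (b₀ i) = vq i from b₀.constr_basis D _ i, hvq]
    exact LinearMap.congr_fun this x
  have hθ : ∀ z, ρ (schanuel p q z).1 = a z.2 := by
    intro z
    change ρ (z.1 + p (z.2 - q z.1)) = a z.2
    rw [map_add, hp, map_sub, hq]
    abel
  let B : Module.Basis (Fin r ⊕ Fin s) D (V × (Fin s → D)) := (b₀.prod bs).map (schanuel p q)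
  let E : Fin r ⊕ Fin s ≃ Fin (r + s) := finSumFinEquiv
  let fv : Fin r ⊕ Fin s → D := Sum.elim (fun _ => 0) g
  have hB : ∀ i, ρ (B i).1 = KaehlerDifferential.D R D (fv i) := by
    rintro (i | i)
    · have : B (Sum.inl i) = schanuel p q (b₀ i, 0) := by
        simp [B, Module.Basis.prod_apply]
      rw [this, hθ]
      simp [fv]
    · have : B (Sum.inr i) = schanuel p q (0, bs i) := by
        simp [B, Module.Basis.prod_apply]
      rw [this, hθ, ha]
      rfl
  refine ⟨s, r + s, MvPolynomial.aeval fun i => fv (E.symm i), B.reindex E, ?_, fun i => ?_⟩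
  · rw [← AlgHom.range_eq_top, ← Algebra.adjoin_range_eq_range_aeval, eq_top_iff, ← hS]
    refine Algebra.adjoin_mono ?_
    rw [← hg]
    rintro _ ⟨i, rfl⟩
    exact ⟨E (Sum.inr i), by simp [fv]⟩
  · rw [Module.Basis.reindex_apply, hB, MvPolynomial.aeval_X]

end K964.Fil
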