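import Groth.Agent.ResProp.EF.K863.Hom
import Groth.Agent.ResProp.EF.K964.BaseChange
import Groth.Agent.ResProp.EF.K964.ExModel
import Mathlib.RingTheory.TensorProduct.IsBaseChangeRightExact

/-!
# Base change of models and of their truncations
-/

set_option autoImplicit false
set_option linter.style.haveILetI false

open MvPolynomial

namespace Groth.Agent.ResProp.EF.K964

open K863 (Model)

section Quot

variable {R : Type*} [CommRing R] {S : Type*} [CommRing S] [Algebra R S]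
  {P : Type*} [CommRing P] [Algebra R P] {P₁ : Type*} [CommRing P₁] [Algebra R P₁] [Algebra S P₁] [IsScalarTower R S P₁]

/-- an extended ideal is spanned over the new base ring -/
theorem map_eq_span {i : P →ₐ[R] P₁} (hi : IsBaseChange S i.toLinearMap) (I : Ideal P) :
    (I.map i).restrictScalars S = Submodule.span S (i '' (I : Set P)) := by
  apply le_antisymm
  · intro x hx
    have hx : x ∈ I.map i := hx
    refine Submodule.span_induction (p := fun x _ => x ∈ Submodule.span S (i '' (I : Set P)))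
      (fun x hx => Submodule.subset_span hx) (Submodule.zero_mem _) (fun x y _ _ hx hy => Submodule.add_mem _ hx hy)
      (fun a x _ hx => ?_) hx
    -- multiplication by `a`
    have key : ∀ b ∈ I, ∀ a : P₁, a * i b ∈ Submodule.span S (i '' (I : Set P)) := by
      intro b hb a
      refine hi.inductionOn a (fun a => a * i b ∈ Submodule.span S (i '' (I : Set P))) ?_ (fun m => ?_) (fun s y hy => ?_)
        (fun y z hy hz => ?_)
      · rw [zero_mul]; exact Submodule.zero_mem _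
      · refine Submodule.subset_span ⟨m * b, I.mul_mem_left m hb, ?_⟩
        rw [map_mul]
        rfl
      · rw [smul_mul_assoc]; exact Submodule.smul_mem _ _ hy
      · rw [add_mul]; exact Submodule.add_mem _ hy hz
    rw [smul_eq_mul]
    refine Submodule.span_induction (p := fun x _ => a * x ∈ Submodule.span S (i '' (I : Set P))) ?_ ?_ ?_ ?_ hx
    · rintro _ ⟨b, hb, rfl⟩
      exact key b hb a
    · rw [mul_zero]; exact Submodule.zero_mem _
    · intro x y _ _ hx hy
      rw [mul_add]; exact Submodule.add_mem _ hx hy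
    · intro s x _ hx
      rw [mul_smul_comm]; exact Submodule.smul_mem _ _ hx
  · rw [Submodule.span_le]
    rintro _ ⟨b, hb, rfl⟩
    exact Ideal.mem_map_of_mem _ hb

/-- the quotient by an extended ideal is a base change -/
theorem isBaseChange_quot {i : P →ₐ[R] P₁} (hi : IsBaseChange S i.toLinearMap) (I : Ideal P) :
    IsBaseChange S (Ideal.quotientMapₐ (I.map i) i Ideal.le_comap_map : P ⧸ I →ₐ[R] P₁ ⧸ I.map i).toLinearMap := by
  let f' : TensorProduct R S I →ₗ[S] P₁ :=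
    TensorProduct.AlgebraTensorModule.lift
      ((LinearMap.lsmul S (I →ₗ[R] P₁)).flip (i.toLinearMap.comp (I.restrictScalars R).subtype))
  have hf' : ∀ (s : S) (a : I), f' (s ⊗ₜ a) = s • i (a : P) := fun s a => rfl
  refine IsBaseChange.of_right_exact S (TensorProduct.mk R S I 1) i.toLinearMap _
    (f := (I.restrictScalars R).subtype) (g := (Ideal.Quotient.mkₐ R I).toLinearMap)
    (f' := f') (g' := (Ideal.Quotient.mkₐ S (I.map i)).toLinearMap) ?_ ?_ (TensorProduct.isBaseChange R I S) hi ?_ ?_ ?_ ?_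
  · ext a
    change i (a : P) = f' (1 ⊗ₜ a)
    rw [hf', one_smul]
  · rfl
  · intro x
    constructor
    · intro hx
      exact ⟨⟨x, Ideal.Quotient.eq_zero_iff_mem.1 hx⟩, rfl⟩
    · rintro ⟨a, rfl⟩
      exact Ideal.Quotient.eq_zero_iff_mem.2 a.2
  · exact Ideal.Quotient.mk_surjective
  · intro x
    have h1 : Ideal.Quotient.mk (I.map i) x = 0 ↔ x ∈ Submodule.span S (i '' (I : Set P)) := by
      rw [Ideal.Quotient.eq_zero_iff_mem, ← map_eq_span hi I]
      rfl
    refine h1.trans ?_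
    constructor
    · intro hx
      refine Submodule.span_induction (p := fun x _ => x ∈ Set.range f') ?_ ⟨0, map_zero _⟩ ?_ ?_ hx
      · rintro _ ⟨a, ha, rfl⟩
        exact ⟨1 ⊗ₜ ⟨a, ha⟩, by rw [hf', one_smul]⟩
      · rintro x y _ _ ⟨a, rfl⟩ ⟨b, rfl⟩
        exact ⟨a + b, map_add _ _ _⟩
      · rintro s x _ ⟨a, rfl⟩
        exact ⟨s • a, map_smul _ _ _⟩
    · rintro ⟨a, rfl⟩
      clear h1
      induction a using TensorProduct.induction_on with
      | zero => rw [map_zero]; exact Submodule.zero_mem _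
      | tmul s a => rw [hf']; exact Submodule.smul_mem _ _ (Submodule.subset_span ⟨a, a.2, rfl⟩)
      | add x y hx hy => rw [map_add]; exact Submodule.add_mem _ hx hy
  · exact Ideal.Quotient.mk_surjective

theorem isBaseChange_quot' {i : P →ₐ[R] P₁} (hi : IsBaseChange S i.toLinearMap) {I : Ideal P} {I₁ : Ideal P₁}
    (hI : I₁ = I.map i) (q : P ⧸ I →ₐ[R] P₁ ⧸ I₁)
    (hq : ∀ z, q (Ideal.Quotient.mk I z) = Ideal.Quotient.mk I₁ (i z)) : IsBaseChange S q.toLinearMap := by
  subst hI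
  have : q = Ideal.quotientMapₐ (I.map i) i Ideal.le_comap_map := by
    apply Ideal.Quotient.algHom_ext
    exact AlgHom.ext fun z => hq z
  rw [this]
  exact isBaseChange_quot hi I

/-- the image of an ideal in a quotient, after base change -/
theorem span_image_eq {i : P →ₐ[R] P₁} (hi : IsBaseChange S i.toLinearMap) (I : Ideal P) {x : P₁} (hx : x ∈ I.map i) :
    x ∈ Submodule.span S (i '' (I : Set P)) := by
  rw [← map_eq_span hi I]
  exact hx

theorem map_map_eq {A B C B' : Type*} [CommRing A] [CommRing B] [CommRing C] [CommRing B'] (f : A →+* B) (g : B →+* C)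
    (f' : A →+* B') (g' : B' →+* C) (h : ∀ a, g (f a) = g' (f' a)) (I : Ideal A) :
    (I.map f).map g = (I.map f').map g' := by
  rw [Ideal.map_map, Ideal.map_map]
  congr 1
  exact RingHom.ext h

end Quot

section Comm

variable {R : Type*} [CommRing R] {R₁ : Type*} [CommRing R₁] [Algebra R R₁]
  {D : Type*} [CommRing D] [Algebra R D]
  {D₁ : Type*} [CommRing D₁] [Algebra R D₁] [Algebra R₁ D₁] [IsScalarTower R R₁ D₁] {σ : Type*}

theorem comm_apply' {f : MvPolynomial σ R →ₐ[R] D} (h : D →ₐ[R] D₁) (z : MvPolynomial σ R) :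
    MvPolynomial.aeval (R := R₁) (fun i => h (f (X i))) (MvPolynomial.map (algebraMap R R₁) z) = h (f z) :=
  _root_.K964.Fil.comm_apply (f := f) (f₁ := MvPolynomial.aeval (R := R₁) (fun i => h (f (X i)))) (h := h)
    (fun i => MvPolynomial.aeval_X _ i) z

end Comm

section BC

variable {R : Type*} [CommRing R] {R₁ : Type*} [CommRing R₁] [Algebra R R₁]
  {D : Type*} [CommRing D] [Algebra R D] {V : Type*} [AddCommGroup V] [Module D V] {ρ : V →ₗ[D] Ω[D⁄R]}
  {D₁ : Type*} [CommRing D₁] [Algebra R D₁] [Algebra R₁ D₁] [IsScalarTower R R₁ D₁]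
  {V₁ : Type*} [AddCommGroup V₁] [Module D₁ V₁] {ρ₁ : V₁ →ₗ[D₁] Ω[D₁⁄R₁]}

/-- the base change of a model along `R → R₁` -/
noncomputable abbrev _root_.Groth.Agent.ResProp.EF.K863.Model.baseChange (m : Model R D V ρ) (h : D →ₐ[R] D₁)
    (hb : IsBaseChange R₁ h.toLinearMap) (b₁ : Module.Basis (Fin m.M) D₁ V₁)
    (hb₁ : ∀ i, ρ₁ (b₁ i) = KaehlerDifferential.D R₁ D₁ (h (m.f (X i)))) : Model R₁ D₁ V₁ ρ₁ where
  M := m.M
  f := MvPolynomial.aeval fun i => h (m.f (X i))
  surj := by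
    intro x
    have comm : ∀ z, MvPolynomial.aeval (R := R₁) (fun i => h (m.f (X i))) (MvPolynomial.map (algebraMap R R₁) z) =
        h (m.f z) := fun z =>
      Groth.Agent.ResProp.EF.K964.comm_apply' (f := m.f) h z
    refine hb.inductionOn x (fun x => ∃ z, MvPolynomial.aeval (R := R₁) (fun i => h (m.f (X i))) z = x)
      ⟨0, map_zero _⟩ (fun d => ?_) (fun s d hd => ?_) (fun x y hx hy => ?_)
    · obtain ⟨z, rfl⟩ := m.surj d
      exact ⟨_, comm z⟩
    · obtain ⟨z, rfl⟩ := hd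
      exact ⟨s • z, map_smul _ _ _⟩
    · obtain ⟨z, rfl⟩ := hx
      obtain ⟨w, rfl⟩ := hy
      exact ⟨z + w, map_add _ _ _⟩
  b := b₁
  hb := fun i => by rw [MvPolynomial.aeval_X]; exact hb₁ i

variable (m : Model R D V ρ)

theorem J2_eq (m : Model R D V ρ) : m.J2 = _root_.K964.Fil.J2p m.f := by
  ext z
  rw [m.mem_J2_iff, _root_.K964.Fil.mem_J2p, K863.Model.mem_J]
  exact Iff.rfl

theorem Fil_eq (m : Model R D V ρ) (n : ℕ) : m.Fil n = _root_.K964.Fil.Filp m.f n := by
  rw [_root_.K964.Fil.Filp_eq, K863.Model.Fil, J2_eq, iSup_prod]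
  rfl

variable (h : D →ₐ[R] D₁)
    (hb : IsBaseChange R₁ h.toLinearMap) (b₁ : Module.Basis (Fin m.M) D₁ V₁)
    (hb₁ : ∀ i, ρ₁ (b₁ i) = KaehlerDifferential.D R₁ D₁ (h (m.f (X i))))

/-- `R[X] → R₁[X]` -/
noncomputable def bcMap : m.PP →ₐ[R] (m.baseChange h hb b₁ hb₁).PP :=
  MvPolynomial.mapAlgHom (Algebra.ofId R R₁)

theorem bcMap_apply (z : m.PP) : bcMap m h hb b₁ hb₁ z = MvPolynomial.map (algebraMap R R₁) z := rfl

theorem isBaseChange_bcMap : IsBaseChange R₁ (bcMap m h hb b₁ hb₁).toLinearMap :=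
  _root_.K964.Fil.isBaseChange_map R R₁ (Fin m.M)

@[simp] theorem f_bcMap (z : m.PP) : (m.baseChange h hb b₁ hb₁).f (bcMap m h hb b₁ hb₁ z) = h (m.f z) :=
  comm_apply' (f := m.f) h z

theorem pderiv_bcMap (i : Fin m.M) (z : m.PP) :
    pderiv i (bcMap m h hb b₁ hb₁ z) = bcMap m h hb b₁ hb₁ (pderiv i z) := MvPolynomial.pderiv_map

/-- `dV` and base change -/
theorem dV_bcMap (z : m.PP) : (m.baseChange h hb b₁ hb₁).dV (bcMap m h hb b₁ hb₁ z) =
    ∑ i, h (m.f (pderiv i z)) • b₁ i := by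
  rw [Model.dV_apply]
  refine Finset.sum_congr rfl fun i _ => ?_
  congr 1
  refine (congrArg _ (pderiv_bcMap m h hb b₁ hb₁ i z)).trans ?_
  exact f_bcMap m h hb b₁ hb₁ _

theorem baseChange_J [Module.Flat R R₁] :
    (m.baseChange h hb b₁ hb₁).J = m.J.map (bcMap m h hb b₁ hb₁) :=
  _root_.K964.Fil.ker_map hb fun i => MvPolynomial.aeval_X _ i

theorem baseChange_J2 [Module.Flat R R₁] :
    (m.baseChange h hb b₁ hb₁).J2 = m.J2.map (bcMap m h hb b₁ hb₁) := by
  rw [J2_eq, J2_eq]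
  exact _root_.K964.Fil.J2p_map hb fun i => MvPolynomial.aeval_X _ i

/-- (7) `Fil n` of the base change is the extension of `Fil n` -/
theorem baseChange_Fil [Module.Flat R R₁] (n : ℕ) :
    (m.baseChange h hb b₁ hb₁).Fil n = (m.Fil n).map (bcMap m h hb b₁ hb₁) := by
  rw [Fil_eq, Fil_eq]
  exact _root_.K964.Fil.Filp_map hb (fun i => MvPolynomial.aeval_X _ i) n

theorem map_mem_Fil {n : ℕ} {z : m.PP} (hz : z ∈ m.Fil n) :
    bcMap m h hb b₁ hb₁ z ∈ (m.baseChange h hb b₁ hb₁).Fil n := by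
  have key : m.Fil n ≤ ((m.baseChange h hb b₁ hb₁).Fil n).comap (bcMap m h hb b₁ hb₁) := by
    refine m.Fil_le fun a b hab => ?_
    rw [← Ideal.map_le_iff_le_comap, Ideal.map_mul, Ideal.map_pow, Ideal.map_pow]
    refine (Ideal.mul_mono (Ideal.pow_right_mono ?_ a) (Ideal.pow_right_mono ?_ b)).trans (Model.le_Fil _ hab)
    · rw [Ideal.map_le_iff_le_comap]
      intro z hz
      rw [Ideal.mem_comap, Model.mem_J, f_bcMap, m.mem_J.1 hz, map_zero]
    · rw [Ideal.map_le_iff_le_comap]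
      intro z hz
      rw [Ideal.mem_comap, Model.mem_J2, f_bcMap, dV_bcMap]
      obtain ⟨h1, h2⟩ := m.mem_J2_iff.1 hz
      refine ⟨by rw [m.mem_J.1 h1, map_zero], Finset.sum_eq_zero fun i _ => ?_⟩
      rw [m.mem_J.1 (h2 i), map_zero, zero_smul]
  exact key hz

end BC

section Tr

variable {R : Type*} [CommRing R] {R₁ : Type*} [CommRing R₁] [Algebra R R₁]
  {D : Type*} [CommRing D] [Algebra R D] {V : Type*} [AddCommGroup V] [Module D V] {ρ : V →ₗ[D] Ω[D⁄R]}
  {D₁ : Type*} [CommRing D₁] [Algebra R D₁] [Algebra R₁ D₁] [IsScalarTower R R₁ D₁]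
  {V₁ : Type*} [AddCommGroup V₁] [Module D₁ V₁] {ρ₁ : V₁ →ₗ[D₁] Ω[D₁⁄R₁]}

/-- the truncation `PP / Fil (k + 1)` -/
abbrev Tr (m : Model R D V ρ) (k : ℕ) : Type _ := m.PP ⧸ m.Fil (k + 1)

/-- its filtration -/
noncomputable def TrF (m : Model R D V ρ) (k n : ℕ) : Ideal (Tr m k) :=
  (m.Fil n).map (Ideal.Quotient.mk (m.Fil (k + 1)))

variable (m : Model R D V ρ) (h : D →ₐ[R] D₁)
    (hb : IsBaseChange R₁ h.toLinearMap) (b₁ : Module.Basis (Fin m.M) D₁ V₁)
    (hb₁ : ∀ i, ρ₁ (b₁ i) = KaehlerDifferential.D R₁ D₁ (h (m.f (X i))))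

/-- `Tr m k → Tr (m.baseChange) k` -/
noncomputable def trBC (k : ℕ) : Tr m k →ₐ[R] Tr (m.baseChange h hb b₁ hb₁) k :=
  Ideal.quotientMapₐ _ (bcMap m h hb b₁ hb₁) fun _ hz => map_mem_Fil m h hb b₁ hb₁ hz

@[simp] theorem trBC_mk (k : ℕ) (z : m.PP) : trBC m h hb b₁ hb₁ k (Ideal.Quotient.mk _ z) =
    Ideal.Quotient.mk _ (bcMap m h hb b₁ hb₁ z) := rfl

/-- the truncation commutes with flat base change -/
theorem isBaseChange_trBC [Module.Flat R R₁] (k : ℕ) :
    IsBaseChange R₁ (trBC m h hb b₁ hb₁ k).toLinearMap :=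
  isBaseChange_quot' (S := R₁) (isBaseChange_bcMap m h hb b₁ hb₁)
    (baseChange_Fil m h hb b₁ hb₁ (k + 1)) (trBC m h hb b₁ hb₁ k) fun _ => rfl

/-- the filtration of the truncation commutes with flat base change -/
theorem TrF_baseChange [Module.Flat R R₁] (k n : ℕ) :
    TrF (m.baseChange h hb b₁ hb₁) k n = (TrF m k n).map (trBC m h hb b₁ hb₁ k) := by
  have e : TrF (m.baseChange h hb b₁ hb₁) k n =
      ((m.Fil n).map (bcMap m h hb b₁ hb₁)).map (Ideal.Quotient.mk ((m.baseChange h hb b₁ hb₁).Fil (k + 1))) :=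
    congrArg (Ideal.map (Ideal.Quotient.mk ((m.baseChange h hb b₁ hb₁).Fil (k + 1))))
      (baseChange_Fil m h hb b₁ hb₁ n)
  rw [e, TrF]
  exact map_map_eq (bcMap m h hb b₁ hb₁).toRingHom (Ideal.Quotient.mk ((m.baseChange h hb b₁ hb₁).Fil (k + 1)))
    (Ideal.Quotient.mk (m.Fil (k + 1))) (trBC m h hb b₁ hb₁ k).toRingHom (fun _ => rfl) (m.Fil n)

end Tr

end Groth.Agent.ResProp.EF.K964
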