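import Groth.Agent.ResProp.EF.K863.Quot
import Groth.Agent.ResProp.EF.K964.ModelBC

/-!
# Flat base change of the graded pieces of a model
-/

set_option autoImplicit false
set_option linter.style.haveILetI false

open MvPolynomial

namespace Groth.Agent.ResProp.EF.K964

open K863 (Model)

section Ideal

variable {R : Type*} [CommRing R] {S : Type*} [CommRing S] [Algebra R S]
  {P : Type*} [CommRing P] [Algebra R P] {P₁ : Type*} [CommRing P₁] [Algebra R P₁] [Algebra S P₁] [IsScalarTower R S P₁]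

/-- the map of an ideal to the extended ideal -/
def idealBC (i : P →ₐ[R] P₁) {I : Ideal P} {I₁ : Ideal P₁} (hI : ∀ z ∈ I, i z ∈ I₁) : I →ₗ[R] I₁ where
  toFun z := ⟨i z, hI z z.2⟩
  map_add' _ _ := Subtype.ext (map_add i _ _)
  map_smul' r _ := Subtype.ext (map_smul i r _)

/-- an extended ideal is the base change of the ideal -/
theorem isBaseChange_ideal [Module.Flat R S] {i : P →ₐ[R] P₁} (hi : IsBaseChange S i.toLinearMap) {I : Ideal P}
    {I₁ : Ideal P₁} (hI : I₁ = I.map i) (hI' : ∀ z ∈ I, i z ∈ I₁) : IsBaseChange S (idealBC i hI') := by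
  have hq := isBaseChange_quot' hi hI
    (Ideal.quotientMapₐ I₁ i (fun z hz => hI' z hz)) (fun _ => rfl)
  refine IsBaseChange.of_left_exact S (idealBC i hI') i.toLinearMap _
    (f := (I.restrictScalars R).subtype) (g := (Ideal.Quotient.mkₐ R I).toLinearMap)
    (f' := (I₁.restrictScalars S).subtype) (g' := (Ideal.Quotient.mkₐ S I₁).toLinearMap) ?_ ?_ hi hq ?_ ?_ ?_ ?_
  · rfl
  · rfl
  · intro x
    exact ⟨fun hx => ⟨⟨x, Ideal.Quotient.eq_zero_iff_mem.1 hx⟩, rfl⟩, by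
      rintro ⟨a, rfl⟩; exact Ideal.Quotient.eq_zero_iff_mem.2 a.2⟩
  · exact Subtype.val_injective
  · intro x
    exact ⟨fun hx => ⟨⟨x, Ideal.Quotient.eq_zero_iff_mem.1 hx⟩, rfl⟩, by
      rintro ⟨a, rfl⟩; exact Ideal.Quotient.eq_zero_iff_mem.2 a.2⟩
  · exact Subtype.val_injective

/-- the map on `I / (I ∩ I')` -/
def subquotBC (i : P →ₐ[R] P₁) {I I' : Ideal P} {I₁ I₁' : Ideal P₁} (hI : ∀ z ∈ I, i z ∈ I₁)
    (hI' : ∀ z ∈ I', i z ∈ I₁') :
    (I ⧸ Submodule.comap (Submodule.subtype I) I') →ₗ[R] (I₁ ⧸ Submodule.comap (Submodule.subtype I₁) I₁') :=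
  Submodule.mapQ ((Submodule.comap (Submodule.subtype I) I').restrictScalars R)
    ((Submodule.comap (Submodule.subtype I₁) I₁').restrictScalars R) (idealBC i hI) fun z hz => hI' z hz

theorem isBaseChange_subquot [Module.Flat R S] {i : P →ₐ[R] P₁} (hi : IsBaseChange S i.toLinearMap) {I I' : Ideal P}
    {I₁ I₁' : Ideal P₁} (hle : I' ≤ I) (hle₁ : I₁' ≤ I₁) (hI : I₁ = I.map i) (hI' : I₁' = I'.map i)
    (h : ∀ z ∈ I, i z ∈ I₁) (h' : ∀ z ∈ I', i z ∈ I₁') :
    IsBaseChange S (subquotBC i h h') := by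
  refine IsBaseChange.of_right_exact S (idealBC i h') (idealBC i h) (subquotBC i h h')
    (f := Submodule.inclusion (show I'.restrictScalars R ≤ I.restrictScalars R from hle))
    (g := ((Submodule.comap (Submodule.subtype I) I').restrictScalars R).mkQ)
    (f' := Submodule.inclusion (show I₁'.restrictScalars S ≤ I₁.restrictScalars S from hle₁))
    (g' := ((Submodule.comap (Submodule.subtype I₁) I₁').restrictScalars S).mkQ) ?_ ?_
    (isBaseChange_ideal hi hI' h') (isBaseChange_ideal hi hI h) ?_ ?_ ?_ ?_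
  · rfl
  · rfl
  · intro x
    constructor
    · intro hx
      exact ⟨⟨x, (Submodule.Quotient.mk_eq_zero (Submodule.comap (Submodule.subtype I) I') (x := x)).1 hx⟩, rfl⟩
    · rintro ⟨a, rfl⟩
      exact (Submodule.Quotient.mk_eq_zero (Submodule.comap (Submodule.subtype I) I')).2 a.2
  · exact Submodule.mkQ_surjective _
  · intro x
    constructor
    · intro hx
      exact ⟨⟨x, (Submodule.Quotient.mk_eq_zero (Submodule.comap (Submodule.subtype I₁) I₁') (x := x)).1 hx⟩, rfl⟩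
    · rintro ⟨a, rfl⟩
      exact (Submodule.Quotient.mk_eq_zero (Submodule.comap (Submodule.subtype I₁) I₁')).2 a.2
  · exact Submodule.mkQ_surjective _

end Ideal

section BC

variable {R : Type*} [CommRing R] {R₁ : Type*} [CommRing R₁] [Algebra R R₁]
  {D : Type*} [CommRing D] [Algebra R D] {V : Type*} [AddCommGroup V] [Module D V] {ρ : V →ₗ[D] Ω[D⁄R]}
  {D₁ : Type*} [CommRing D₁] [Algebra R D₁] [Algebra R₁ D₁] [IsScalarTower R R₁ D₁]
  {V₁ : Type*} [AddCommGroup V₁] [Module D₁ V₁] {ρ₁ : V₁ →ₗ[D₁] Ω[D₁⁄R₁]}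
  (m : Model R D V ρ) (h : D →ₐ[R] D₁)
    (hb : IsBaseChange R₁ h.toLinearMap) (b₁ : Module.Basis (Fin m.M) D₁ V₁)
    (hb₁ : ∀ i, ρ₁ (b₁ i) = KaehlerDifferential.D R₁ D₁ (h (m.f (X i))))

/-- `gr n m → gr n (m.baseChange)` -/
noncomputable def grBC (n : ℕ) : m.gr n →ₗ[R] (m.baseChange h hb b₁ hb₁).gr n :=
  subquotBC (bcMap m h hb b₁ hb₁) (fun _ hz => map_mem_Fil m h hb b₁ hb₁ hz) (fun _ hz => map_mem_Fil m h hb b₁ hb₁ hz)

theorem grBC_toGr (n : ℕ) (z : m.Fil n) : grBC m h hb b₁ hb₁ n (m.toGr n z) =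
    (m.baseChange h hb b₁ hb₁).toGr n ⟨bcMap m h hb b₁ hb₁ z, map_mem_Fil m h hb b₁ hb₁ z.2⟩ := rfl

theorem grBC_smul (n : ℕ) (d : D) (x : m.gr n) :
    grBC m h hb b₁ hb₁ n (d • x) = h d • grBC m h hb b₁ hb₁ n x := by
  obtain ⟨a, rfl⟩ := m.surj d
  obtain ⟨z, rfl⟩ := m.toGr_surjective n x
  rw [Model.f_smul_toGr, grBC_toGr, grBC_toGr, ← f_bcMap m h hb b₁ hb₁ a, Model.f_smul_toGr]
  congr 1
  exact Subtype.ext (map_mul (bcMap m h hb b₁ hb₁) a z)

/-- the graded pieces commute with flat base change -/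
theorem isBaseChange_grBC [Module.Flat R R₁] (n : ℕ) : IsBaseChange R₁ (grBC m h hb b₁ hb₁ n) :=
  isBaseChange_subquot (isBaseChange_bcMap m h hb b₁ hb₁) (m.Fil_antitone (Nat.le_succ n))
    ((m.baseChange h hb b₁ hb₁).Fil_antitone (Nat.le_succ n)) (baseChange_Fil m h hb b₁ hb₁ n)
    (baseChange_Fil m h hb b₁ hb₁ (n + 1)) _ _

end BC

end Groth.Agent.ResProp.EF.K964
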