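import Groth.Agent.ResProp.EF.K863.Quot

/-!
# Algebra maps of truncated models, without choices

`m.fQ`, `m.dVQ`: the maps `PP / Fil n → D`, `PP / Fil n → V` (`n ≥ 2`). An `R`-algebra map `θ : PP / Fil n → PP' / Fil' n` is
over a map of data `h` if it commutes with these; it is the same as the reduction of a map of models over `h`.
-/

set_option autoImplicit false

open MvPolynomial

namespace Groth.Agent.ResProp.EF.K964

open K863 (Model DatumHom IsModelHom)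

variable {R : Type*} [CommRing R]
  {D : Type*} [CommRing D] [Algebra R D] {V : Type*} [AddCommGroup V] [Module D V] {ρ : V →ₗ[D] Ω[D⁄R]}
  {D' : Type*} [CommRing D'] [Algebra R D'] {V' : Type*} [AddCommGroup V'] [Module D' V']
  {ρ' : V' →ₗ[D'] Ω[D'⁄R]}
  {D'' : Type*} [CommRing D''] [Algebra R D''] {V'' : Type*} [AddCommGroup V''] [Module D'' V'']
  {ρ'' : V'' →ₗ[D''] Ω[D''⁄R]}

/-- `f` on the truncation -/
noncomputable def fQ (m : Model R D V ρ) {n : ℕ} (hn : 1 ≤ n) : m.Q n →ₐ[R] D :=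
  Ideal.Quotient.liftₐ _ m.f fun z hz => by
    have : z ∈ m.Fil 1 := m.Fil_antitone hn hz
    rwa [Model.Fil_one] at this

@[simp] theorem fQ_mk (m : Model R D V ρ) {n : ℕ} (hn : 1 ≤ n) (z : m.PP) :
    fQ m hn (Ideal.Quotient.mk _ z) = m.f z := rfl

theorem fQ_surjective (m : Model R D V ρ) {n : ℕ} (hn : 1 ≤ n) : Function.Surjective (fQ m hn) := fun d => by
  obtain ⟨z, rfl⟩ := m.surj d
  exact ⟨Ideal.Quotient.mk _ z, rfl⟩

/-- `dV` on the truncation -/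
noncomputable def dVQ (m : Model R D V ρ) {n : ℕ} (hn : 2 ≤ n) : m.Q n →+ V :=
  QuotientAddGroup.lift _ m.dV fun z hz => by
    have : z ∈ m.Fil 2 := m.Fil_antitone hn hz
    rw [Model.Fil_two] at this
    exact this.2

@[simp] theorem dVQ_mk (m : Model R D V ρ) {n : ℕ} (hn : 2 ≤ n) (z : m.PP) :
    dVQ m hn (Ideal.Quotient.mk _ z) = m.dV z := rfl

theorem dVQ_mul (m : Model R D V ρ) {n : ℕ} (hn : 2 ≤ n) (x y : m.Q n) :
    dVQ m hn (x * y) = fQ m (by omega) x • dVQ m hn y + fQ m (by omega) y • dVQ m hn x := by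
  obtain ⟨x, rfl⟩ := Ideal.Quotient.mk_surjective x
  obtain ⟨y, rfl⟩ := Ideal.Quotient.mk_surjective y
  rw [← map_mul, dVQ_mk, fQ_mk, fQ_mk, dVQ_mk, dVQ_mk, Model.dV_mul]

theorem dVQ_algebraMap (m : Model R D V ρ) {n : ℕ} (hn : 2 ≤ n) (r : R) : dVQ m hn (algebraMap R _ r) = 0 :=
  m.dV_algebraMap r

theorem dVQ_smul [Module R V] [IsScalarTower R D V] (m : Model R D V ρ) {n : ℕ} (hn : 2 ≤ n) (r : R) (x : m.Q n) :
    dVQ m hn (r • x) = r • dVQ m hn x := by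
  have e : r • x = algebraMap R (m.Q n) r * x := Algebra.smul_def r x
  rw [e, dVQ_mul, dVQ_algebraMap, smul_zero, add_zero, AlgHom.commutes, algebraMap_smul]

/-- `FilQ 1` and `FilQ 2` in terms of `fQ`, `dVQ` -/
theorem mem_FilQ_one (m : Model R D V ρ) {n : ℕ} (hn : 1 ≤ n) {x : m.Q n} : x ∈ m.FilQ n 1 ↔ fQ m hn x = 0 := by
  obtain ⟨x, rfl⟩ := Ideal.Quotient.mk_surjective x
  rw [Model.mk_mem_FilQ hn, fQ_mk, Model.Fil_one, Model.mem_J]

theorem mem_FilQ_two (m : Model R D V ρ) {n : ℕ} (hn : 2 ≤ n) {x : m.Q n} :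
    x ∈ m.FilQ n 2 ↔ fQ m (by omega) x = 0 ∧ dVQ m hn x = 0 := by
  obtain ⟨x, rfl⟩ := Ideal.Quotient.mk_surjective x
  rw [Model.mk_mem_FilQ hn, fQ_mk, dVQ_mk, Model.Fil_two, Model.mem_J2]

variable {m : Model R D V ρ} {m' : Model R D' V' ρ'} {m'' : Model R D'' V'' ρ''}

/-- an algebra map of truncated models over a map of data -/
structure IsOver (h : DatumHom ρ ρ') {n : ℕ} (hn : 2 ≤ n) (θ : m.Q n →ₐ[R] m'.Q n) : Prop where
  f_eq : ∀ z, fQ m' (by omega) (θ z) = h.η (fQ m (by omega) z)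
  dV_eq : ∀ z, dVQ m' hn (θ z) = h.ηV (dVQ m hn z)

theorem isOver_mapQ {h : DatumHom ρ ρ'} {n : ℕ} (hn : 2 ≤ n) {φ : m.PP →ₐ[R] m'.PP} (hφ : IsModelHom h φ) :
    IsOver h hn (hφ.mapQ n) where
  f_eq z := by
    obtain ⟨z, rfl⟩ := Ideal.Quotient.mk_surjective z
    rw [IsModelHom.mapQ_mk, fQ_mk, fQ_mk, hφ.f_eq]
  dV_eq z := by
    obtain ⟨z, rfl⟩ := Ideal.Quotient.mk_surjective z
    rw [IsModelHom.mapQ_mk, dVQ_mk, dVQ_mk, hφ.dV_eq]

/-- every algebra map over `h` is the reduction of a map of models -/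
theorem IsOver.exists_lift {h : DatumHom ρ ρ'} {n : ℕ} {hn : 2 ≤ n} {θ : m.Q n →ₐ[R] m'.Q n} (hθ : IsOver h hn θ) :
    ∃ (φ : m.PP →ₐ[R] m'.PP) (hφ : IsModelHom h φ), θ = hφ.mapQ n := by
  choose y hy using fun i : Fin m.M => Ideal.Quotient.mk_surjective (θ (Ideal.Quotient.mk _ (X i)))
  have hφ : IsModelHom (m := m) (m' := m') h (MvPolynomial.aeval y) := by
    refine K863.isModelHom_of_X h _ (fun i => ?_) fun i => ?_
    · rw [aeval_X]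
      have := hθ.f_eq (Ideal.Quotient.mk _ (X i))
      rwa [← hy, fQ_mk, fQ_mk] at this
    · rw [aeval_X]
      have := hθ.dV_eq (Ideal.Quotient.mk _ (X i))
      rwa [← hy, dVQ_mk, dVQ_mk, Model.dV_X] at this
  refine ⟨_, hφ, ?_⟩
  apply Ideal.Quotient.algHom_ext
  apply MvPolynomial.algHom_ext
  intro i
  change θ (Ideal.Quotient.mk _ (X i)) = hφ.mapQ n (Ideal.Quotient.mk _ (X i))
  rw [IsModelHom.mapQ_mk, aeval_X, hy]

theorem exists_isOver (m : Model R D V ρ) (m' : Model R D' V' ρ') (h : DatumHom ρ ρ') {n : ℕ} (hn : 2 ≤ n) :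
    ∃ θ : m.Q n →ₐ[R] m'.Q n, IsOver h hn θ := by
  obtain ⟨φ, hφ⟩ := K863.exists_modelHom m m' h
  exact ⟨_, isOver_mapQ hn hφ⟩

/-- a map over `h` respects the filtrations -/
theorem IsOver.mem {h : DatumHom ρ ρ'} {n : ℕ} {hn : 2 ≤ n} {θ : m.Q n →ₐ[R] m'.Q n} (hθ : IsOver h hn θ) {p : ℕ}
    {x : m.Q n} (hx : x ∈ m.FilQ n p) : θ x ∈ m'.FilQ n p := by
  obtain ⟨φ, hφ, rfl⟩ := hθ.exists_lift
  exact hφ.mapQ_mem hx

/-- two maps over `h` agree modulo `Fil 2` -/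
theorem IsOver.sub_mem_two {h : DatumHom ρ ρ'} {n : ℕ} {hn : 2 ≤ n} {θ θ' : m.Q n →ₐ[R] m'.Q n} (hθ : IsOver h hn θ)
    (hθ' : IsOver h hn θ') (x : m.Q n) : θ x - θ' x ∈ m'.FilQ n 2 := by
  rw [mem_FilQ_two m' hn, map_sub, map_sub, hθ.f_eq, hθ'.f_eq, hθ.dV_eq, hθ'.dV_eq, sub_self, sub_self]
  exact ⟨rfl, rfl⟩

/-- two maps over `h` induce the same map on `gr` -/
theorem IsOver.sub_mem {h : DatumHom ρ ρ'} {n : ℕ} {hn : 2 ≤ n} {θ θ' : m.Q n →ₐ[R] m'.Q n} (hθ : IsOver h hn θ)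
    (hθ' : IsOver h hn θ') {p : ℕ} {x : m.Q n} (hx : x ∈ m.FilQ n p) : θ x - θ' x ∈ m'.FilQ n (p + 1) := by
  obtain ⟨φ, hφ, rfl⟩ := hθ.exists_lift
  obtain ⟨φ', hφ', rfl⟩ := hθ'.exists_lift
  exact hφ.mapQ_sub_mem hφ' n p hx

theorem IsOver.id (m : Model R D V ρ) {n : ℕ} (hn : 2 ≤ n) : IsOver (m := m) (m' := m) (DatumHom.id ρ) hn (AlgHom.id R _) :=
  ⟨fun _ => rfl, fun _ => rfl⟩

theorem IsOver.comp {g : DatumHom ρ' ρ''} {h : DatumHom ρ ρ'} {n : ℕ} {hn : 2 ≤ n} {θ' : m'.Q n →ₐ[R] m''.Q n}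
    {θ : m.Q n →ₐ[R] m'.Q n} (hθ' : IsOver g hn θ') (hθ : IsOver h hn θ) : IsOver (g.comp h) hn (θ'.comp θ) where
  f_eq z := by rw [AlgHom.comp_apply, hθ'.f_eq, hθ.f_eq]; rfl
  dV_eq z := by rw [AlgHom.comp_apply, hθ'.dV_eq, hθ.dV_eq]; rfl

/-- a map over an isomorphism of data is bijective -/
theorem IsOver.bijective {h : DatumHom ρ ρ'} {g : DatumHom ρ' ρ} (hg : h.IsInv g) {n : ℕ} {hn : 2 ≤ n}
    {θ : m.Q n →ₐ[R] m'.Q n} (hθ : IsOver h hn θ) : Function.Bijective θ := by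
  obtain ⟨φ, hφ, rfl⟩ := hθ.exists_lift
  exact hφ.bijective_mapQ hg n

theorem IsOver.symm {h : DatumHom ρ ρ'} {g : DatumHom ρ' ρ} (hg : h.IsInv g) {n : ℕ} {hn : 2 ≤ n}
    {θ : m.Q n ≃ₐ[R] m'.Q n} (hθ : IsOver h hn (θ : m.Q n →ₐ[R] m'.Q n)) :
    IsOver g hn (θ.symm : m'.Q n →ₐ[R] m.Q n) where
  f_eq z := by
    obtain ⟨z, rfl⟩ := θ.surjective z
    have h1 := hθ.f_eq z
    have h2 : g.η (h.η (fQ m (by omega) z)) = fQ m (by omega) z :=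
      DFunLike.congr_fun (congrArg DatumHom.η hg.left) _
    change fQ m' _ (θ z) = _ at h1
    change fQ m _ (θ.symm (θ z)) = _
    rw [θ.symm_apply_apply, h1, h2]
  dV_eq z := by
    obtain ⟨z, rfl⟩ := θ.surjective z
    have h1 := hθ.dV_eq z
    have h2 : g.ηV (h.ηV (dVQ m hn z)) = dVQ m hn z :=
      DFunLike.congr_fun (congrArg DatumHom.ηV hg.left) _
    change dVQ m' _ (θ z) = _ at h1
    change dVQ m _ (θ.symm (θ z)) = _
    rw [θ.symm_apply_apply, h1, h2]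

end Groth.Agent.ResProp.EF.K964
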