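import Groth.Agent.ResProp.EF.K964.BCAlg
import Groth.Agent.ResProp.EF.K964.OverQ
import Groth.Agent.ResProp.EF.K964.GrBC

/-!
# Base change of the data `(D, V, ρ)` and of a model along a ring homomorphism `x` (in `K980.BC`)
-/

set_option autoImplicit false
set_option linter.style.haveILetI false
set_option linter.unusedSectionVars false

universe u v w

open MvPolynomial

namespace Groth.Agent.ResProp.EF.K964

open K863 (Model DatumHom IsModelHom)
open K980

section Kaehler

variable {R : Type u} {R' : Type v} [CommRing R] [CommRing R'] (x : R →+* R') {D : Type w} [CommRing D] [Algebra R D]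

/-- the semilinear map of differentials -/
theorem exists_kmap : ∃ κ : Ω[D⁄R] →+ Ω[BC x D⁄R'], (∀ (a : D) (ω : Ω[D⁄R]), κ (a • ω) = bc x a • κ ω) ∧
    ∀ a : D, κ (KaehlerDifferential.D R D a) = KaehlerDifferential.D R' (BC x D) (bc x a) := by
  letI m1 : Module D Ω[BC x D⁄R'] := Module.compHom _ (BC.bcHom (A := D) x)
  letI m2 : Module R Ω[BC x D⁄R'] := Module.compHom _ x
  have h1 : ∀ (a : D) (ω : Ω[BC x D⁄R']), a • ω = bc x a • ω := fun a ω => rfl
  have h2 : ∀ (r : R) (ω : Ω[BC x D⁄R']), r • ω = x r • ω := fun a ω => rfl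
  haveI : IsScalarTower R D Ω[BC x D⁄R'] := ⟨fun r a ω => by
    rw [h1, h1, h2, LinearMap.map_smulₛₗ, smul_assoc]⟩
  let δ : Derivation R D Ω[BC x D⁄R'] := Derivation.mk'
    { toFun := fun a => KaehlerDifferential.D R' (BC x D) (bc x a)
      map_add' := fun a b => by rw [map_add, map_add]
      map_smul' := fun r a => by rw [LinearMap.map_smulₛₗ, Derivation.map_smul, RingHom.id_apply, h2] }
    (fun a b => by
      simp only [LinearMap.coe_mk, AddHom.coe_mk, h1]
      rw [BC.bc_mul, Derivation.leibniz])
  refine ⟨δ.liftKaehlerDifferential.toAddMonoidHom, fun a ω => ?_, fun a => ?_⟩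
  · change δ.liftKaehlerDifferential (a • ω) = _
    rw [map_smul]
    rfl
  · exact Derivation.liftKaehlerDifferential_comp_D δ a

/-- the semilinear map of differentials -/
noncomputable def kmap : Ω[D⁄R] →+ Ω[BC x D⁄R'] := (exists_kmap x).choose

theorem kmap_smul (a : D) (ω : Ω[D⁄R]) : kmap x (a • ω) = bc x a • kmap x ω := (exists_kmap x).choose_spec.1 a ω

@[simp] theorem kmap_D (a : D) : kmap x (KaehlerDifferential.D R D a) = KaehlerDifferential.D R' (BC x D) (bc x a) :=
  (exists_kmap x).choose_spec.2 a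

theorem kmap_ext {σ : Ω[D⁄R] →+ Ω[BC x D⁄R']} (h1 : ∀ (a : D) (ω : Ω[D⁄R]), σ (a • ω) = bc x a • σ ω)
    (h2 : ∀ a : D, σ (KaehlerDifferential.D R D a) = KaehlerDifferential.D R' (BC x D) (bc x a)) : σ = kmap x := by
  ext ω
  have hω : ω ∈ Submodule.span D (Set.range (KaehlerDifferential.D R D)) := by
    rw [KaehlerDifferential.span_range_derivation]; trivial
  induction hω using Submodule.span_induction with
  | mem y hy =>
    obtain ⟨a, rfl⟩ := hy
    rw [h2, kmap_D]
  | zero => rw [map_zero, map_zero]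
  | add y z _ _ hy hz => rw [map_add, map_add, hy, hz]
  | smul a y _ hy => rw [h1, kmap_smul, hy]

end Kaehler

section Datum

variable {R : Type u} {R' : Type v} [CommRing R] [CommRing R'] (x : R →+* R') {D : Type w} [CommRing D] [Algebra R D]
  {V : Type*} [AddCommGroup V] [Module D V] [Module R V] [IsScalarTower R D V]

/-- `ρ_x` as an `R'`-linear map -/
noncomputable def rhoLin (ρ : V →ₗ[D] Ω[D⁄R]) : BC x V →ₗ[R'] Ω[BC x D⁄R'] :=
  BC.lift (σ := RingHom.id R') (τ := x) (RingHom.id_comp x)
    { toFun := fun v => kmap x (ρ v)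
      map_add' := fun a b => by rw [map_add, map_add]
      map_smul' := fun r a => by
        rw [← algebraMap_smul D r a, map_smul, kmap_smul, BC.bc_algebraMap, algebraMap_smul] }

theorem rhoLin_bc (ρ : V →ₗ[D] Ω[D⁄R]) (v : V) : rhoLin x ρ (bc x v) = kmap x (ρ v) :=
  BC.lift_bc (RingHom.id_comp x) _ v

/-- the base change `ρ_x : BC x V → Ω` of `ρ` -/
noncomputable def rhoBC (ρ : V →ₗ[D] Ω[D⁄R]) : BC x V →ₗ[BC x D] Ω[BC x D⁄R'] where
  toFun := rhoLin x ρ
  map_add' := map_add _
  map_smul' a v := by
    rw [RingHom.id_apply]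
    induction a using BC.ind with
    | h0 => rw [zero_smul, map_zero, zero_smul]
    | h2 a b ha hb => rw [add_smul, map_add, add_smul, ha, hb]
    | h1 r a =>
      rw [smul_assoc, map_smul, smul_assoc]
      congr 1
      induction v using BC.ind with
      | h0 => rw [smul_zero, map_zero, smul_zero]
      | h2 a b ha hb => rw [smul_add, map_add, map_add, smul_add, ha, hb]
      | h1 s v =>
        rw [smul_comm (bc x a) s (bc x v), (rhoLin x ρ).map_smul s (bc x a • bc x v),
          (rhoLin x ρ).map_smul s (bc x v), smul_comm (bc x a) s (rhoLin x ρ (bc x v)),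
          ← BC.bc_smul, rhoLin_bc, rhoLin_bc, map_smul, kmap_smul]

@[simp] theorem rhoBC_bc (ρ : V →ₗ[D] Ω[D⁄R]) (v : V) : rhoBC x ρ (bc x v) = kmap x (ρ v) := rhoLin_bc x ρ v

/-! ### the basis of `BC x V` -/

variable {ι : Type*} [Fintype ι] [DecidableEq ι] (b : Module.Basis ι D V)

/-- coordinates -/
noncomputable def coordLin : BC x V →ₗ[R'] (ι → BC x D) :=
  BC.lift (σ := RingHom.id R') (τ := x) (RingHom.id_comp x)
    { toFun := fun v i => bc x (b.repr v i)
      map_add' := fun v w => funext fun i => by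
        rw [map_add, Finsupp.add_apply, map_add, Pi.add_apply]
      map_smul' := fun r v => funext fun i => by
        rw [← algebraMap_smul D r v, map_smul, Finsupp.smul_apply, smul_eq_mul, BC.bc_mul, BC.bc_algebraMap,
          Pi.smul_apply, Algebra.smul_def] }

theorem coordLin_bc (v : V) (i : ι) : coordLin x b (bc x v) i = bc x (b.repr v i) :=
  congrFun (BC.lift_bc (RingHom.id_comp x) _ v) i

theorem coordLin_smul (a : BC x D) (v : BC x V) : coordLin x b (a • v) = a • coordLin x b v := by
  induction a using BC.ind with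
  | h0 => rw [zero_smul, map_zero, zero_smul]
  | h2 a b' ha hb => rw [add_smul, map_add, add_smul, ha, hb]
  | h1 r a =>
    rw [smul_assoc, (coordLin x b).map_smul r, smul_assoc]
    congr 1
    induction v using BC.ind with
    | h0 => rw [smul_zero, map_zero, smul_zero]
    | h2 a b' ha hb => rw [smul_add, map_add, map_add, smul_add, ha, hb]
    | h1 s v =>
      rw [smul_comm (bc x a) s (bc x v), (coordLin x b).map_smul s, (coordLin x b).map_smul s,
        smul_comm (bc x a) s (coordLin x b (bc x v)), ← BC.bc_smul]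
      congr 1
      funext i
      rw [coordLin_bc, Pi.smul_apply, coordLin_bc, map_smul, Finsupp.smul_apply, smul_eq_mul, smul_eq_mul, BC.bc_mul]

/-- the coordinates of `BC x V` -/
noncomputable def coordEquiv : BC x V ≃ₗ[BC x D] (ι → BC x D) where
  toFun := coordLin x b
  map_add' := map_add _
  map_smul' := coordLin_smul x b
  invFun c := ∑ i, c i • bc x (b i)
  left_inv v := by
    induction v using BC.ind with
    | h0 => rw [map_zero]; simp
    | h2 v w hv hw =>
      rw [map_add]
      conv_rhs => rw [← hv, ← hw]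
      rw [← Finset.sum_add_distrib]
      exact Finset.sum_congr rfl fun i _ => by rw [Pi.add_apply, add_smul]
    | h1 r v =>
      rw [(coordLin x b).map_smul r]
      have e : ∑ i, coordLin x b (bc x v) i • bc x (b i) = bc x v := by
        conv_rhs => rw [← b.sum_repr v, map_sum]
        exact Finset.sum_congr rfl fun i _ => by rw [coordLin_bc, BC.bc_smul]
      conv_rhs => rw [← e, Finset.smul_sum]
      exact Finset.sum_congr rfl fun i _ => by rw [Pi.smul_apply, smul_assoc]
  right_inv c := by
    rw [map_sum]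
    funext j
    rw [Finset.sum_apply, Finset.sum_eq_single j]
    · rw [coordLin_smul, Pi.smul_apply, coordLin_bc, Module.Basis.repr_self, Finsupp.single_eq_same, BC.bc_one,
        smul_eq_mul, mul_one]
    · intro i _ hij
      rw [coordLin_smul, Pi.smul_apply, coordLin_bc, Module.Basis.repr_self, Finsupp.single_eq_of_ne (by exact hij.symm),
        map_zero, smul_zero]
    · intro h; exact absurd (Finset.mem_univ j) h

/-- the basis of `BC x V` -/
noncomputable def basisBC : Module.Basis ι (BC x D) (BC x V) := Module.Basis.ofEquivFun (coordEquiv x b)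

@[simp] theorem basisBC_apply (i : ι) : basisBC x b i = bc x (b i) := by
  rw [basisBC, Module.Basis.coe_ofEquivFun]
  change ∑ j, (Pi.single i (1 : BC x D) : ι → BC x D) j • bc x (b j) = _
  rw [Finset.sum_eq_single i]
  · rw [Pi.single_eq_same, one_smul]
  · intro j _ hj
    rw [Pi.single_eq_of_ne hj, zero_smul]
  · intro h; exact absurd (Finset.mem_univ i) h

end Datum

section Model

variable {R : Type u} {R' : Type v} [CommRing R] [CommRing R'] (x : R →+* R') {D : Type w} [CommRing D] [Algebra R D]
  {V : Type*} [AddCommGroup V] [Module D V] [Module R V] [IsScalarTower R D V] {ρ : V →ₗ[D] Ω[D⁄R]}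
  (m : Model R D V ρ)

theorem aeval_bc_map (z : m.PP) :
    MvPolynomial.aeval (R := R') (fun i => bc x (m.f (X i))) (MvPolynomial.map x z) = bc x (m.f z) := by
  induction z using MvPolynomial.induction_on with
  | C a =>
    rw [MvPolynomial.map_C, ← MvPolynomial.algebraMap_eq, ← MvPolynomial.algebraMap_eq, AlgHom.commutes, AlgHom.commutes,
      BC.bc_algebraMap]
  | add p q hp hq => rw [map_add, map_add, map_add, map_add, hp, hq]
  | mul_X p i hp => rw [map_mul, map_mul, map_mul, BC.bc_mul, hp, MvPolynomial.map_X, aeval_X]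

/-- the base change `m_x` of a model along `x` -/
noncomputable abbrev mBC : Model R' (BC x D) (BC x V) (rhoBC x ρ) where
  M := m.M
  f := MvPolynomial.aeval fun i => bc x (m.f (X i))
  surj := by
    intro z
    induction z using BC.ind with
    | h0 => exact ⟨0, map_zero _⟩
    | h2 a b ha hb =>
      obtain ⟨z, rfl⟩ := ha
      obtain ⟨w, rfl⟩ := hb
      exact ⟨z + w, map_add _ _ _⟩
    | h1 r a =>
      obtain ⟨z, rfl⟩ := m.surj a
      exact ⟨r • MvPolynomial.map x z, by rw [map_smul, aeval_bc_map]⟩
  b := basisBC x m.b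
  hb := fun i => by rw [basisBC_apply, rhoBC_bc, m.hb, kmap_D, aeval_X]

/-- `PP → PP_x` -/
noncomputable def ppMap : m.PP →+* (mBC x m).PP := MvPolynomial.map x

theorem ppMap_apply (z : m.PP) : ppMap x m z = MvPolynomial.map x z := rfl

@[simp] theorem ppMap_X (i : Fin m.M) : ppMap x m (X i) = X i := MvPolynomial.map_X _ _

@[simp] theorem ppMap_C (r : R) : ppMap x m (C r) = C (x r) := MvPolynomial.map_C _ _

@[simp] theorem f_ppMap (z : m.PP) : (mBC x m).f (ppMap x m z) = bc x (m.f z) := aeval_bc_map x m z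

theorem pderiv_ppMap (i : Fin m.M) (z : m.PP) : pderiv i (ppMap x m z) = ppMap x m (pderiv i z) := MvPolynomial.pderiv_map

@[simp] theorem dV_ppMap (z : m.PP) : (mBC x m).dV (ppMap x m z) = bc x (m.dV z) := by
  rw [Model.dV_apply, Model.dV_apply, map_sum]
  refine Finset.sum_congr rfl fun i _ => ?_
  rw [BC.bc_smul, ← f_ppMap]
  congr 1
  · exact congrArg _ (pderiv_ppMap x m i z)
  · exact basisBC_apply x m.b i

theorem ppMap_mem_Fil {n : ℕ} {z : m.PP} (hz : z ∈ m.Fil n) : ppMap x m z ∈ (mBC x m).Fil n := by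
  have key : m.Fil n ≤ ((mBC x m).Fil n).comap (ppMap x m) := by
    refine m.Fil_le fun a b hab => ?_
    rw [← Ideal.map_le_iff_le_comap, Ideal.map_mul, Ideal.map_pow, Ideal.map_pow]
    refine (Ideal.mul_mono (Ideal.pow_right_mono ?_ a) (Ideal.pow_right_mono ?_ b)).trans (Model.le_Fil _ hab)
    · rw [Ideal.map_le_iff_le_comap]
      intro z hz
      rw [Ideal.mem_comap, Model.mem_J, f_ppMap, m.mem_J.1 hz, map_zero]
    · rw [Ideal.map_le_iff_le_comap]
      intro z hz
      rw [Ideal.mem_comap, Model.mem_J2, f_ppMap, dV_ppMap, hz.1, hz.2, map_zero, map_zero]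
      exact ⟨rfl, rfl⟩
  exact key hz

end Model

end Groth.Agent.ResProp.EF.K964
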