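import Groth.Agent.ResProp.EF.K964.DatumBC

/-!
# The truncated model commutes with flat base change, in `K980.BC`
-/

set_option autoImplicit false
set_option linter.style.haveILetI false
set_option linter.unusedSectionVars false

universe u v w

open MvPolynomial

namespace Groth.Agent.ResProp.EF.K964

open K863 (Model DatumHom IsModelHom)
open K980

section IsBC

variable {R : Type u} {R' : Type v} [CommRing R] [CommRing R'] (x : R →+* R') (M : Type w) [AddCommGroup M] [Module R M]

/-- `bc` is a base change in the sense of Mathlib -/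
theorem isBaseChange_bc [Algebra R R'] (hx : algebraMap R R' = x) [Module R (BC x M)] [IsScalarTower R R' (BC x M)]
    (g : M →ₗ[R] BC x M) (hg : ∀ m, g m = bc x m) : IsBaseChange R' g := by
  refine IsBaseChange.of_lift_unique _ ?_
  intro Q _ _ _ _ φ
  letI : AddCommGroup Q := Module.addCommMonoidToAddCommGroup R'
  let φ' : M →ₛₗ[x] Q :=
    { toFun := φ
      map_add' := map_add φ
      map_smul' := fun r m => by rw [map_smul, ← hx, algebraMap_smul] }
  refine ⟨BC.lift (σ := RingHom.id R') (τ := x) (RingHom.id_comp x) φ', ?_, ?_⟩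
  · ext m
    change BC.lift (σ := RingHom.id R') (τ := x) (RingHom.id_comp x) φ' (g m) = φ m
    rw [hg, BC.lift_bc]
    rfl
  · intro ψ hψ
    refine BC.hom_ext fun m => ?_
    rw [BC.lift_bc]
    have := LinearMap.congr_fun hψ m
    change ψ (g m) = φ m at this
    rw [hg] at this
    exact this

end IsBC

/-- two base changes -/
theorem bijective_of_isBaseChange {R S M N N' : Type*} [CommRing R] [CommRing S] [Algebra R S] [AddCommGroup M]
    [Module R M] [AddCommGroup N] [Module R N] [Module S N] [IsScalarTower R S N] [AddCommGroup N'] [Module R N']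
    [Module S N'] [IsScalarTower R S N'] {f : M →ₗ[R] N} {g : M →ₗ[R] N'} (hf : IsBaseChange S f)
    (hg : IsBaseChange S g) (e : N →ₗ[S] N') (h : ∀ m, e (f m) = g m) : Function.Bijective e := by
  have : e = (hf.equiv.symm.trans hg.equiv).toLinearMap := by
    refine hf.algHom_ext _ _ fun m => ?_
    change e (f m) = hg.equiv (hf.equiv.symm (f m))
    rw [h, IsBaseChange.equiv_symm_apply, IsBaseChange.equiv_tmul, one_smul]
  rw [this]
  exact (hf.equiv.symm.trans hg.equiv).bijective

section Model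

variable {R : Type u} {R' : Type v} [CommRing R] [CommRing R'] (x : R →+* R') {D : Type w} [CommRing D] [Algebra R D]
  {V : Type*} [AddCommGroup V] [Module D V] [Module R V] [IsScalarTower R D V] {ρ : V →ₗ[D] Ω[D⁄R]}
  (m : Model R D V ρ)

/-- for `x` flat the filtration of `m_x` is generated by the filtration of `m` -/
theorem Fil_mBC (hx : x.Flat) (n : ℕ) : (mBC x m).Fil n = (m.Fil n).map (ppMap x m) := by
  letI : Algebra R R' := x.toAlgebra
  haveI : Module.Flat R R' := hx
  letI : Algebra R (BC x D) := ((algebraMap R' (BC x D)).comp x).toAlgebra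
  haveI : IsScalarTower R R' (BC x D) := IsScalarTower.of_algebraMap_eq fun _ => rfl
  let h : D →ₐ[R] BC x D := { BC.bcHom x with commutes' := fun r => BC.bc_algebraMap r }
  have hb : IsBaseChange R' h.toLinearMap := isBaseChange_bc x D rfl h.toLinearMap fun _ => rfl
  exact baseChange_Fil (ρ₁ := rhoBC x ρ) m h hb (basisBC x m.b)
    (fun i => by rw [basisBC_apply, rhoBC_bc, m.hb, kmap_D]; rfl) n

/-- `PP / Fil n → PP_x / Fil n` -/
noncomputable def qMap (n : ℕ) : m.Q n →+* (mBC x m).Q n :=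
  Ideal.quotientMap _ (ppMap x m) fun _ hz => ppMap_mem_Fil x m hz

@[simp] theorem qMap_mk (n : ℕ) (z : m.PP) :
    qMap x m n (Ideal.Quotient.mk _ z) = Ideal.Quotient.mk _ (ppMap x m z) := rfl

/-- `BC x (PP / Fil n) → PP_x / Fil n` -/
noncomputable def eQ (n : ℕ) : BC x (m.Q n) →ₐ[R'] (mBC x m).Q n :=
  BC.liftAlg (qMap x m n) fun r => by
    change Ideal.Quotient.mk _ (ppMap x m (C r)) = Ideal.Quotient.mk _ (C (x r))
    rw [ppMap_C]

@[simp] theorem eQ_bc (n : ℕ) (z : m.Q n) : eQ x m n (bc x z) = qMap x m n z := BC.liftAlg_bc _ _ z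

/-- **the truncation commutes with flat base change** -/
theorem eQ_bijective (hx : x.Flat) (n : ℕ) : Function.Bijective (eQ x m n) := by
  letI : Algebra R R' := x.toAlgebra
  haveI : Module.Flat R R' := hx
  letI : Module R (BC x (m.Q n)) := Module.compHom _ x
  haveI : IsScalarTower R R' (BC x (m.Q n)) := ⟨fun r s z => mul_smul (x r) s z⟩
  letI : Algebra R (BC x D) := ((algebraMap R' (BC x D)).comp x).toAlgebra
  haveI : IsScalarTower R R' (BC x D) := IsScalarTower.of_algebraMap_eq fun _ => rfl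
  let h : D →ₐ[R] BC x D := { BC.bcHom x with commutes' := fun r => BC.bc_algebraMap r }
  have hb : IsBaseChange R' h.toLinearMap := isBaseChange_bc x D rfl h.toLinearMap fun _ => rfl
  have hb₁ : ∀ i, rhoBC x ρ (basisBC x m.b i) = KaehlerDifferential.D R' (BC x D) (h (m.f (X i))) := fun i => by
    rw [basisBC_apply, rhoBC_bc, m.hb, kmap_D]; rfl
  let q : m.Q n →ₐ[R] (m.baseChange h hb (basisBC x m.b) hb₁).Q n :=
    Ideal.quotientMapₐ _ (bcMap m h hb (basisBC x m.b) hb₁) fun _ hz => map_mem_Fil m h hb (basisBC x m.b) hb₁ hz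
  have h2 : IsBaseChange R' q.toLinearMap :=
    isBaseChange_quot' (S := R') (isBaseChange_bcMap m h hb (basisBC x m.b) hb₁)
      (baseChange_Fil m h hb (basisBC x m.b) hb₁ n) q fun _ => rfl
  let g : m.Q n →ₗ[R] BC x (m.Q n) :=
    { toFun := bc x
      map_add' := map_add _
      map_smul' := fun r z => by rw [LinearMap.map_smulₛₗ]; rfl }
  have h1 : IsBaseChange R' g := isBaseChange_bc x (m.Q n) rfl g fun _ => rfl
  refine bijective_of_isBaseChange h1 h2 (eQ x m n).toLinearMap fun z => ?_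
  change eQ x m n (bc x z) = q z
  rw [eQ_bc]
  obtain ⟨z, rfl⟩ := Ideal.Quotient.mk_surjective z
  rfl

/-- `BC x (PP / Fil n) = PP_x / Fil n` for `x` flat -/
noncomputable def eQE (hx : x.Flat) (n : ℕ) : BC x (m.Q n) ≃ₐ[R'] (mBC x m).Q n :=
  AlgEquiv.ofBijective (eQ x m n) (eQ_bijective x m hx n)

@[simp] theorem eQE_apply (hx : x.Flat) (n : ℕ) (z : BC x (m.Q n)) : eQE x m hx n z = eQ x m n z := rfl

/-- `f` -/
theorem fQ_eQ {n : ℕ} (hn : 1 ≤ n) (z : BC x (m.Q n)) :
    fQ (mBC x m) hn (eQ x m n z) = BC.mapAlg x (fQ m hn) z := by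
  have : ((fQ (mBC x m) hn).comp (eQ x m n)) = BC.mapAlg x (fQ m hn) := by
    refine BC.algHom_ext fun z => ?_
    obtain ⟨z, rfl⟩ := Ideal.Quotient.mk_surjective z
    rw [AlgHom.comp_apply, eQ_bc, qMap_mk, fQ_mk, BC.mapAlg_bc, fQ_mk, f_ppMap]
  exact DFunLike.congr_fun this z

/-- `dV` as an `R`-linear map -/
noncomputable def dVL {n : ℕ} (hn : 2 ≤ n) : m.Q n →ₗ[R] V :=
  { dVQ m hn with map_smul' := fun r z => dVQ_smul m hn r z }

@[simp] theorem dVL_apply {n : ℕ} (hn : 2 ≤ n) (z : m.Q n) : dVL m hn z = dVQ m hn z := rfl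

theorem dVQ_eQ {n : ℕ} (hn : 2 ≤ n) (z : BC x (m.Q n)) :
    dVQ (mBC x m) hn (eQ x m n z) = BC.map x (dVL m hn) z := by
  induction z using BC.ind with
  | h0 => rw [map_zero, map_zero, map_zero]
  | h2 a b ha hb => rw [map_add, map_add, map_add, ha, hb]
  | h1 r z =>
    rw [map_smul (eQ x m n), dVQ_smul, map_smul (BC.map x (dVL m hn)), BC.map_bc, eQ_bc]
    obtain ⟨z, rfl⟩ := Ideal.Quotient.mk_surjective z
    rw [qMap_mk, dVQ_mk, dV_ppMap, dVL_apply, dVQ_mk]

/-- an ideal of `PP_x` extended from `PP` is spanned over `R'` -/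
theorem mem_span_of_mem_map (I : Ideal m.PP) {y : (mBC x m).PP} (hy : y ∈ I.map (ppMap x m)) :
    y ∈ Submodule.span R' (ppMap x m '' (I : Set m.PP)) := by
  letI : Algebra R R' := x.toAlgebra
  have h1 : IsBaseChange R' (MvPolynomial.mapAlgHom (Algebra.ofId R R') : m.PP →ₐ[R] (mBC x m).PP).toLinearMap :=
    _root_.K964.Fil.isBaseChange_map R R' (Fin m.M)
  have h2 := map_eq_span h1 I
  have h3 : y ∈ (I.map (MvPolynomial.mapAlgHom (Algebra.ofId R R') : m.PP →ₐ[R] (mBC x m).PP)).restrictScalars R' := hy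
  rw [h2] at h3
  exact h3

theorem qMap_mem {n p : ℕ} {z : m.Q n} (hz : z ∈ m.FilQ n p) : qMap x m n z ∈ (mBC x m).FilQ n p := by
  obtain ⟨w, hw, rfl⟩ := Model.mem_FilQ.1 hz
  exact Model.mem_FilQ.2 ⟨ppMap x m w, ppMap_mem_Fil x m hw, rfl⟩

/-- the filtration over `x`: the image of `BC x (Fil p)` -/
theorem eQ_mem_of_mem_range (n p : ℕ) {z : BC x (m.Q n)}
    (hz : z ∈ LinearMap.range (BC.map x (((m.FilQ n p).restrictScalars R).subtype))) :
    eQ x m n z ∈ (mBC x m).FilQ n p := by
  obtain ⟨w, rfl⟩ := hz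
  induction w using BC.ind with
  | h0 => rw [map_zero, map_zero]; exact Ideal.zero_mem _
  | h2 a b ha hb => rw [map_add, map_add]; exact Ideal.add_mem _ ha hb
  | h1 r w =>
    rw [map_smul, map_smul, BC.map_bc, eQ_bc]
    exact Submodule.smul_of_tower_mem _ r (qMap_mem x m w.2)

/-- for `x` flat this is the filtration of the model `m_x` -/
theorem mem_FilQ_eQ_iff (hx : x.Flat) (n p : ℕ) (z : BC x (m.Q n)) :
    eQ x m n z ∈ (mBC x m).FilQ n p ↔
      z ∈ LinearMap.range (BC.map x (((m.FilQ n p).restrictScalars R).subtype)) := by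
  refine ⟨fun hz => ?_, eQ_mem_of_mem_range x m n p⟩
  obtain ⟨y, hy, hyz⟩ := Model.mem_FilQ.1 hz
  rw [Fil_mBC x m hx] at hy
  have h1 := mem_span_of_mem_map x m (m.Fil p) hy
  have h2 : Ideal.Quotient.mk _ y ∈ Submodule.map (eQ x m n).toLinearMap
      (LinearMap.range (BC.map x (((m.FilQ n p).restrictScalars R).subtype))) := by
    clear hyz hy
    induction h1 using Submodule.span_induction with
    | mem y hy =>
      obtain ⟨w, hw, rfl⟩ := hy
      refine ⟨bc x (Ideal.Quotient.mk _ w), ⟨bc x ⟨Ideal.Quotient.mk _ w, Model.mem_FilQ.2 ⟨w, hw, rfl⟩⟩, ?_⟩, ?_⟩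
      · rw [BC.map_bc]; rfl
      · exact eQ_bc x m n _
    | zero => rw [map_zero]; exact Submodule.zero_mem _
    | add y z _ _ hy hz => rw [map_add]; exact Submodule.add_mem _ hy hz
    | smul r y _ hy => exact Submodule.smul_mem _ r hy
  rw [hyz] at h2
  obtain ⟨w, hw, hwz⟩ := h2
  have : w = z := (eQ_bijective x m hx n).1 hwz
  rwa [← this]

end Model

end Groth.Agent.ResProp.EF.K964
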