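import Groth.Agent.ResProp.EF.K863.LP
import Groth.Agent.ResProp.EF.K964.QBC

/-!
# For `x` flat the model `m_x` of the base-changed datum computes `BC x (PP / Fil n)`
-/

set_option autoImplicit false
set_option linter.style.haveILetI false
set_option linter.unusedSectionVars false

universe u v w

open MvPolynomial

namespace Groth.Agent.ResProp.EF.K964

open K863 (Model DatumHom IsModelHom)
open K980

variable {R : Type u} {R' : Type v} [CommRing R] [CommRing R'] (x : R →+* R') {D : Type w} [CommRing D] [Algebra R D]
  {V : Type*} [AddCommGroup V] [Module D V] [Module R V] [IsScalarTower R D V] {ρ : V →ₗ[D] Ω[D⁄R]}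
  (m : Model R D V ρ) {n : ℕ} (hn : 2 ≤ n)

/-- **for `x` flat, `m_x` is a model of `(BC x D, BC x V, ρ_x)` which computes `BC x (PP / Fil n)`** -/
noncomputable def bcModel (hx : x.Flat) : K863.BCModel m hn x (rhoBC x ρ) where
  mx := mBC x m
  e := eQE x m hx n
  f_e q := fQ_eQ x m (one_le_two.trans hn) q
  d_e q := by
    have h := dVQ_eQ x m hn q
    exact h
  fil_e p q := mem_FilQ_eQ_iff x m hx n p q

end Groth.Agent.ResProp.EF.K964
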