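import Mathlib.RingTheory.Kaehler.Basic
import Mathlib.RingTheory.Kaehler.Polynomial

/-!
# The filtration `Fil` of a model

`R → P ⊇ J`; `J2 = {z ∈ J : dz ∈ J Ω_{P/R}}`, `Fil n = ∑ J^a J2^b`, `a + 2 b ≥ n`.
Two homomorphisms which agree modulo `Fil (n + 1)` differ on `Fil m` by elements of `Fil (m + n)`.
-/

set_option autoImplicit false
set_option linter.dupNamespace false
set_option linter.style.haveILetI false

universe u v w w'

namespace K964.Fil

open KaehlerDifferential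

section Def

variable (R : Type u) {P : Type v} [CommRing R] [CommRing P] [Algebra R P] (J : Ideal P)

/-- the elements of `J` whose differential vanishes modulo `J` -/
def J2 : Ideal P where
  carrier := {z | z ∈ J ∧ D R P z ∈ J • (⊤ : Submodule P Ω[P⁄R])}
  add_mem' := fun ha hb => ⟨J.add_mem ha.1 hb.1, by rw [map_add]; exact Submodule.add_mem _ ha.2 hb.2⟩
  zero_mem' := ⟨J.zero_mem, by rw [map_zero]; exact Submodule.zero_mem _⟩
  smul_mem' := fun c z hz => ⟨J.mul_mem_left c hz.1, by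
    rw [smul_eq_mul, Derivation.leibniz]
    exact Submodule.add_mem _ (Submodule.smul_mem _ _ hz.2) (Submodule.smul_mem_smul hz.1 trivial)⟩

theorem mem_J2 {z : P} : z ∈ J2 R J ↔ z ∈ J ∧ D R P z ∈ J • (⊤ : Submodule P Ω[P⁄R]) := Iff.rfl

theorem J2_le : J2 R J ≤ J := fun _ h => h.1

theorem sq_le_J2 : J ^ 2 ≤ J2 R J := by
  rw [pow_two, Ideal.mul_le]
  intro a ha b hb
  refine ⟨J.mul_mem_left a hb, ?_⟩
  rw [Derivation.leibniz]
  exact Submodule.add_mem _ (Submodule.smul_mem_smul ha trivial) (Submodule.smul_mem_smul hb trivial)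

/-- the filtration -/
def Fil (n : ℕ) : Ideal P := ⨆ (p : ℕ × ℕ) (_ : n ≤ p.1 + 2 * p.2), J ^ p.1 * J2 R J ^ p.2

variable {J} in
theorem mul_le_Fil {n a b : ℕ} (h : n ≤ a + 2 * b) : J ^ a * J2 R J ^ b ≤ Fil R J n :=
  le_iSup₂_of_le (a, b) h le_rfl

variable {J} in
theorem Fil_le {n : ℕ} {I : Ideal P} (h : ∀ a b : ℕ, n ≤ a + 2 * b → J ^ a * J2 R J ^ b ≤ I) : Fil R J n ≤ I :=
  iSup₂_le fun p hp => h p.1 p.2 hp

theorem Fil_antitone : Antitone (Fil R J) := fun _ _ hmn =>
  Fil_le R fun _ _ h => mul_le_Fil R (hmn.trans h)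

theorem Fil_zero : Fil R J 0 = ⊤ := by
  rw [eq_top_iff]
  refine le_trans ?_ (mul_le_Fil R (a := 0) (b := 0) (Nat.zero_le _))
  simp

theorem pow_le_Fil (n : ℕ) : J ^ n ≤ Fil R J n := by
  refine le_trans ?_ (mul_le_Fil R (a := n) (b := 0) (by simp))
  simp

theorem Fil_one : Fil R J 1 = J := by
  apply le_antisymm
  · refine Fil_le R fun a b h => ?_
    rcases Nat.eq_zero_or_pos a with rfl | ha
    · have hb : b ≠ 0 := by omega
      exact Ideal.mul_le_right.trans ((Ideal.pow_le_self hb).trans (J2_le R J))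
    · exact Ideal.mul_le_left.trans (Ideal.pow_le_self ha.ne')
  · simpa using pow_le_Fil R J 1

theorem Fil_two : Fil R J 2 = J2 R J := by
  apply le_antisymm
  · refine Fil_le R fun a b h => ?_
    rcases Nat.eq_zero_or_pos b with rfl | hb
    · exact Ideal.mul_le_left.trans ((Ideal.pow_le_pow_right (by omega)).trans (sq_le_J2 R J))
    · exact Ideal.mul_le_right.trans (Ideal.pow_le_self hb.ne')
  · refine le_trans ?_ (mul_le_Fil R (a := 0) (b := 1) (by simp))
    simp

theorem Fil_mul_le (m n : ℕ) : Fil R J m * Fil R J n ≤ Fil R J (m + n) := by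
  unfold Fil
  simp only [Ideal.iSup_mul, Ideal.mul_iSup]
  refine iSup₂_le fun p hp => iSup₂_le fun q hq => ?_
  rw [mul_mul_mul_comm, ← pow_add, ← pow_add]
  exact mul_le_Fil R (by omega)

theorem mul_mem_Fil {m n k : ℕ} {x y : P} (hx : x ∈ Fil R J m) (hy : y ∈ Fil R J n) (hk : k ≤ m + n) :
    x * y ∈ Fil R J k :=
  Fil_antitone R J hk (Fil_mul_le R J m n (Ideal.mul_mem_mul hx hy))

/-- the filtration is generated by `J` and `J2` -/
theorem Fil_succ_succ (n : ℕ) : Fil R J (n + 2) = J * Fil R J (n + 1) ⊔ J2 R J * Fil R J n := by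
  apply le_antisymm
  · refine Fil_le R fun a b h => ?_
    rcases Nat.eq_zero_or_pos b with rfl | hb
    · obtain ⟨a, rfl⟩ : ∃ a', a = a' + 1 := ⟨a - 1, by omega⟩
      refine le_sup_of_le_left ?_
      rw [pow_zero, mul_one, pow_succ']
      exact Ideal.mul_mono_right ((Ideal.pow_le_pow_right (by omega)).trans (pow_le_Fil R J _))
    · obtain ⟨b, rfl⟩ : ∃ b', b = b' + 1 := ⟨b - 1, by omega⟩
      refine le_sup_of_le_right ?_
      rw [pow_succ', mul_left_comm]
      exact Ideal.mul_mono_right (mul_le_Fil R (by omega))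
  · refine sup_le ?_ ?_
    · have := Fil_mul_le R J 1 (n + 1)
      rwa [Fil_one, show 1 + (n + 1) = n + 2 by omega] at this
    · have := Fil_mul_le R J 2 n
      rwa [Fil_two, show 2 + n = n + 2 by omega] at this

theorem Fil_le_pow {n k : ℕ} (h : 2 * n ≤ k + 1) : Fil R J k ≤ J ^ n := by
  refine Fil_le R fun a b hab => ?_
  refine (Ideal.mul_mono_right (Ideal.pow_right_mono (J2_le R J) b)).trans ?_
  rw [← pow_add]
  exact Ideal.pow_le_pow_right (by omega)

end Def

section Diff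

variable {R : Type u} {P : Type v} [CommRing R] [CommRing P] [Algebra R P] {J : Ideal P}
  {Q : Type w} [CommRing Q] [Algebra R Q]

/-- the difference of two homomorphisms which are equal modulo an ideal `G₁` is a derivation modulo an ideal `G₂`
which contains the square of `G₁`. -/
theorem sub_mem_of_D_mem {φ ψ : P →ₐ[R] Q} {G₁ G₂ : Ideal Q} (h : ∀ z, φ z - ψ z ∈ G₁) (hsq : G₁ * G₁ ≤ G₂)
    (hJ : ∀ z ∈ J, ∀ x ∈ G₁, φ z * x ∈ G₂) {z : P} (hz : D R P z ∈ J • (⊤ : Submodule P Ω[P⁄R])) :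
    φ z - ψ z ∈ G₂ := by
  letI : Module P (Q ⧸ G₂) := Module.compHom (Q ⧸ G₂) φ.toRingHom
  have hsmul : ∀ (a : P) (q : Q ⧸ G₂), a • q = Ideal.Quotient.mk G₂ (φ a) * q := fun a q => by
    rw [← smul_eq_mul]
    rfl
  haveI : IsScalarTower R P (Q ⧸ G₂) := ⟨fun r a q => by
    rw [hsmul, hsmul, map_smul, Algebra.smul_def, map_mul, mul_assoc, Algebra.smul_def]
    rfl⟩
  let δ : Derivation R P (Q ⧸ G₂) := Derivation.mk'
    { toFun := fun x => Ideal.Quotient.mk G₂ (φ x - ψ x)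
      map_add' := fun x y => by simp only [map_add, map_sub]; ring
      map_smul' := fun r x => by
        simp only [map_smul, RingHom.id_apply, map_sub, Algebra.smul_def r (φ x), Algebra.smul_def r (ψ x), map_mul]
        rw [← mul_sub, Algebra.smul_def]
        rfl }
    (fun a b => by
      simp only [LinearMap.coe_mk, AddHom.coe_mk, hsmul]
      rw [← map_mul, ← map_mul, ← map_add, ← sub_eq_zero, ← map_sub, Ideal.Quotient.eq_zero_iff_mem]
      have e : φ (a * b) - ψ (a * b) - (φ a * (φ b - ψ b) + φ b * (φ a - ψ a)) = -((φ a - ψ a) * (φ b - ψ b)) := by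
        rw [map_mul, map_mul]; ring
      rw [e]
      exact G₂.neg_mem (hsq (Ideal.mul_mem_mul (h a) (h b))))
  have hδ : ∀ x, δ x = Ideal.Quotient.mk G₂ (φ x - ψ x) := fun x => rfl
  let N : Submodule P (Q ⧸ G₂) :=
    { carrier := {q | ∃ x ∈ G₁, Ideal.Quotient.mk G₂ x = q}
      add_mem' := by
        rintro _ _ ⟨x, hx, rfl⟩ ⟨y, hy, rfl⟩
        exact ⟨x + y, G₁.add_mem hx hy, map_add _ _ _⟩
      zero_mem' := ⟨0, G₁.zero_mem, map_zero _⟩
      smul_mem' := by
        rintro c _ ⟨x, hx, rfl⟩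
        exact ⟨φ c * x, G₁.mul_mem_left _ hx, by rw [hsmul, map_mul]⟩ }
  have hN : ∀ ω : Ω[P⁄R], δ.liftKaehlerDifferential ω ∈ N := by
    intro ω
    have h1 : ω ∈ Submodule.span P (Set.range (D R P)) := by
      rw [span_range_derivation]; trivial
    induction h1 using Submodule.span_induction with
    | mem x hx =>
      obtain ⟨y, rfl⟩ := hx
      rw [Derivation.liftKaehlerDifferential_comp_D]
      exact ⟨_, h y, rfl⟩
    | zero => rw [map_zero]; exact N.zero_mem
    | add x y _ _ hx hy => rw [map_add]; exact N.add_mem hx hy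
    | smul a x _ hx => rw [map_smul]; exact N.smul_mem _ hx
  have h2 : ∀ ω ∈ J • (⊤ : Submodule P Ω[P⁄R]), δ.liftKaehlerDifferential ω = 0 := by
    intro ω hω
    induction hω using Submodule.smul_induction_on' with
    | smul r hr n hn =>
      obtain ⟨x, hx, hx'⟩ := hN n
      rw [map_smul, ← hx', hsmul, ← map_mul, Ideal.Quotient.eq_zero_iff_mem]
      exact hJ r hr x hx
    | add x _ y _ hx hy => rw [map_add, hx, hy, add_zero]
  have h2 := h2 _ hz
  rw [Derivation.liftKaehlerDifferential_comp_D, hδ, Ideal.Quotient.eq_zero_iff_mem] at h2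
  exact h2

/-- `(α - 1) Fil m ⊆ Fil (m + n)` -/
theorem sub_mem {G : ℕ → Ideal Q} (hG : Antitone G) (hmul : ∀ m n, G m * G n ≤ G (m + n))
    {φ ψ : P →ₐ[R] Q} (hφ : ∀ m, ∀ z ∈ Fil R J m, φ z ∈ G m) (hψ : ∀ m, ∀ z ∈ Fil R J m, ψ z ∈ G m)
    {n : ℕ} (h : ∀ z, φ z - ψ z ∈ G (n + 1)) (m : ℕ) : ∀ z ∈ Fil R J m, φ z - ψ z ∈ G (m + n) := by
  have hm : ∀ {a b c : ℕ} {x y : Q}, x ∈ G a → y ∈ G b → c ≤ a + b → x * y ∈ G c := fun hx hy hc =>
    hG hc (hmul _ _ (Ideal.mul_mem_mul hx hy))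
  have h2 : ∀ z ∈ J2 R J, φ z - ψ z ∈ G (n + 2) := by
    intro z hz
    refine sub_mem_of_D_mem h ((hmul _ _).trans (hG (by omega))) (fun y hy x hx => ?_) hz.2
    have := hφ 1 y (by rw [Fil_one]; exact hy)
    exact hm this hx (by omega)
  have hs : ∀ x y : P, φ (x * y) - ψ (x * y) = (φ x - ψ x) * φ y + ψ x * (φ y - ψ y) := fun x y => by
    rw [map_mul, map_mul]; ring
  induction m using Nat.strong_induction_on with
  | _ m ih =>
    match m, ih with
    | 0, _ => exact fun z _ => hG (by omega) (h z)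
    | 1, _ => exact fun z _ => hG (by omega) (h z)
    | (m + 2), ih =>
      let K : AddSubgroup P := (G (m + 2 + n)).toAddSubgroup.comap (φ.toRingHom.toAddMonoidHom - ψ.toRingHom.toAddMonoidHom)
      have hK : ∀ z, z ∈ K ↔ φ z - ψ z ∈ G (m + 2 + n) := fun z => Iff.rfl
      intro z hz
      rw [← hK]
      rw [Fil_succ_succ] at hz
      obtain ⟨x, hx, y, hy, rfl⟩ := Submodule.mem_sup.1 hz
      clear hz
      refine K.add_mem ?_ ?_
      · induction hx using Submodule.mul_induction_on' with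
        | mem_mul_mem a ha b hb =>
          rw [hK, hs]
          exact (G _).add_mem (hm (h a) (hφ _ b hb) (by omega)) (hm (hψ 1 a (by rw [Fil_one]; exact ha))
            (ih (m + 1) (by omega) b hb) (by omega))
        | add a _ b _ ha hb => exact K.add_mem (ha) (hb)
      · induction hy using Submodule.mul_induction_on' with
        | mem_mul_mem a ha b hb =>
          rw [hK, hs]
          exact (G _).add_mem (hm (h2 a ha) (hφ _ b hb) (by omega)) (hm (hψ 2 a (by rw [Fil_two]; exact ha))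
            (ih m (by omega) b hb) (by omega))
        | add a _ b _ ha hb => exact K.add_mem (ha) (hb)

end Diff

section Filtered

/-- a decreasing multiplicative filtration by ideals -/
structure IsFil {Q : Type w} [CommRing Q] (G : ℕ → Ideal Q) : Prop where
  anti : Antitone G
  mul : ∀ m n, G m * G n ≤ G (m + n)
  zero : G 0 = ⊤

variable {R : Type u} {P : Type v} [CommRing R] [CommRing P] [Algebra R P] {J : Ideal P}
  {Q : Type w} [CommRing Q] [Algebra R Q] {G : ℕ → Ideal Q}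

theorem IsFil.mul_mem (hG : IsFil G) {a b c : ℕ} {x y : Q} (hx : x ∈ G a) (hy : y ∈ G b) (hc : c ≤ a + b) :
    x * y ∈ G c := hG.anti hc (hG.mul _ _ (Ideal.mul_mem_mul hx hy))

theorem IsFil.pow_le (hG : IsFil G) (a n : ℕ) : G a ^ n ≤ G (a * n) := by
  induction n with
  | zero => rw [mul_zero, hG.zero]; exact le_top
  | succ n ih =>
    rw [pow_succ]
    exact (Ideal.mul_mono_left ih).trans ((hG.mul _ _).trans (hG.anti (by rw [Nat.mul_succ])))

variable (R J) in
theorem isFil_Fil : IsFil (Fil R J) := ⟨Fil_antitone R J, Fil_mul_le R J, Fil_zero R J⟩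

theorem IsFil.map (hG : IsFil G) {Q' : Type w'} [CommRing Q'] (f : Q →+* Q') : IsFil fun n => (G n).map f where
  anti _ _ h := Ideal.map_mono (hG.anti h)
  mul m n := by rw [← Ideal.map_mul]; exact Ideal.map_mono (hG.mul m n)
  zero := by rw [hG.zero, Ideal.map_top]

/-- a homomorphism respects the filtrations if it respects `J` and `J2` -/
theorem map_mem (hG : IsFil G) {φ : P →ₐ[R] Q} (hJ : ∀ z ∈ J, φ z ∈ G 1) (h2 : ∀ z ∈ J2 R J, φ z ∈ G 2) (m : ℕ) :
    ∀ z ∈ Fil R J m, φ z ∈ G m := by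
  have key : Fil R J m ≤ (G m).comap φ := by
    refine Fil_le R fun a b h => ?_
    rw [← Ideal.map_le_iff_le_comap, Ideal.map_mul, Ideal.map_pow, Ideal.map_pow]
    refine (Ideal.mul_mono (Ideal.pow_right_mono (Ideal.map_le_iff_le_comap.2 hJ) a)
      (Ideal.pow_right_mono (Ideal.map_le_iff_le_comap.2 h2) b)).trans ?_
    exact (Ideal.mul_mono (hG.pow_le _ _) (hG.pow_le _ _)).trans ((hG.mul _ _).trans (hG.anti (by omega)))
  exact fun z hz => key hz

/-- two homomorphisms which agree modulo `G 2`: one respects the filtrations if the other one does -/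
theorem map_mem_of_sub (hG : IsFil G) {φ ψ : P →ₐ[R] Q} (h : ∀ z, φ z - ψ z ∈ G 2)
    (hψ : ∀ m, ∀ z ∈ Fil R J m, ψ z ∈ G m) (m : ℕ) : ∀ z ∈ Fil R J m, φ z ∈ G m := by
  refine map_mem hG (fun z hz => ?_) (fun z hz => ?_) m
  · have := (G 1).add_mem (hG.anti one_le_two (h z)) (hψ 1 z (by rwa [Fil_one]))
    rwa [sub_add_cancel] at this
  · have := (G 2).add_mem (h z) (hψ 2 z (by rwa [Fil_two]))
    rwa [sub_add_cancel] at this

/-- `(φ - ψ) Fil m ⊆ G (m + n)` if `(φ - ψ) P ⊆ G (n + 1)`, `n ≥ 1`. -/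
theorem sub_mem' (hG : IsFil G) {φ ψ : P →ₐ[R] Q} (hψ : ∀ m, ∀ z ∈ Fil R J m, ψ z ∈ G m)
    {n : ℕ} (hn : 1 ≤ n) (h : ∀ z, φ z - ψ z ∈ G (n + 1)) (m : ℕ) : ∀ z ∈ Fil R J m, φ z - ψ z ∈ G (m + n) :=
  sub_mem hG.anti hG.mul (map_mem_of_sub hG (fun z => hG.anti (by omega) (h z)) hψ) hψ h m

end Filtered

section Trunc

variable (R : Type u) {P : Type v} [CommRing R] [CommRing P] [Algebra R P] (J : Ideal P) (k : ℕ)

/-- the truncation `P / Fil (k + 1)` -/
abbrev Tr : Type v := P ⧸ Fil R J (k + 1)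

/-- the filtration of the truncation -/
def F (n : ℕ) : Ideal (Tr R J k) := (Fil R J n).map (Ideal.Quotient.mk (Fil R J (k + 1)))

theorem isFil_F : IsFil (F R J k) := (isFil_Fil R J).map _

theorem F_eq_bot {n : ℕ} (h : k + 1 ≤ n) : F R J k n = ⊥ := by
  rw [F, Ideal.map_eq_bot_iff_le_ker, Ideal.mk_ker]
  exact Fil_antitone R J h

variable {R J k}

theorem mk_mem_F {n : ℕ} {z : P} (hz : z ∈ Fil R J n) : Ideal.Quotient.mk (Fil R J (k + 1)) z ∈ F R J k n :=
  Ideal.mem_map_of_mem _ hz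

theorem mk_mem_F_iff {n : ℕ} (hn : n ≤ k + 1) {z : P} :
    Ideal.Quotient.mk (Fil R J (k + 1)) z ∈ F R J k n ↔ z ∈ Fil R J n := by
  refine ⟨fun h => ?_, mk_mem_F⟩
  obtain ⟨y, hy, hyz⟩ := (Ideal.mem_map_iff_of_surjective _ Ideal.Quotient.mk_surjective).1 h
  rw [Ideal.Quotient.eq] at hyz
  have := (Fil R J n).sub_mem hy (Fil_antitone R J hn hyz)
  rwa [sub_sub_cancel] at this

theorem exists_of_mem_F {n : ℕ} {q : Tr R J k} (h : q ∈ F R J k n) :
    ∃ z ∈ Fil R J n, Ideal.Quotient.mk (Fil R J (k + 1)) z = q :=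
  (Ideal.mem_map_iff_of_surjective _ Ideal.Quotient.mk_surjective).1 h

variable {Q : Type w} [CommRing Q] [Algebra R Q] {G : ℕ → Ideal Q}

/-- the same for homomorphisms of the truncation -/
theorem tr_sub_mem (hG : IsFil G) {φ ψ : Tr R J k →ₐ[R] Q} (hψ : ∀ m, ∀ z ∈ F R J k m, ψ z ∈ G m)
    {n : ℕ} (hn : 1 ≤ n) (h : ∀ z, φ z - ψ z ∈ G (n + 1)) (m : ℕ) : ∀ z ∈ F R J k m, φ z - ψ z ∈ G (m + n) := by
  intro q hq
  obtain ⟨z, hz, rfl⟩ := exists_of_mem_F hq
  exact sub_mem' (φ := φ.comp (Ideal.Quotient.mkₐ R _)) (ψ := ψ.comp (Ideal.Quotient.mkₐ R _)) hG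
    (fun m z hz => hψ m _ (mk_mem_F hz)) hn (fun z => h _) m z hz

theorem tr_map_mem (hG : IsFil G) {φ ψ : Tr R J k →ₐ[R] Q} (h : ∀ z, φ z - ψ z ∈ G 2)
    (hψ : ∀ m, ∀ z ∈ F R J k m, ψ z ∈ G m) (m : ℕ) : ∀ z ∈ F R J k m, φ z ∈ G m := by
  intro q hq
  obtain ⟨z, hz, rfl⟩ := exists_of_mem_F hq
  exact map_mem_of_sub (φ := φ.comp (Ideal.Quotient.mkₐ R _)) (ψ := ψ.comp (Ideal.Quotient.mkₐ R _)) hG
    (fun z => h _) (fun m z hz => hψ m _ (mk_mem_F hz)) m z hz

/-- a unipotent endomorphism of the truncation is bijective -/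
theorem bijective_of_unipotent {α : Tr R J k →ₐ[R] Tr R J k} (h : ∀ z, α z - z ∈ F R J k 2) :
    Function.Bijective α := by
  have h1 : ∀ m, ∀ z ∈ F R J k m, α z - z ∈ F R J k (m + 1) :=
    tr_sub_mem (φ := α) (ψ := AlgHom.id R _) (isFil_F R J k) (fun m z hz => hz) le_rfl (fun z => h z)
  constructor
  · rw [injective_iff_map_eq_zero]
    intro z hz
    have h2 : ∀ m, z ∈ F R J k m := by
      intro m
      induction m with
      | zero => rw [(isFil_F R J k).zero]; trivial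
      | succ m ih =>
        have := h1 m z ih
        rw [hz, zero_sub] at this
        exact (Ideal.neg_mem_iff _).1 this
    have := h2 (k + 1)
    rwa [F_eq_bot R J k le_rfl] at this
  · have h2 : ∀ j m, k + 1 ≤ m + j → ∀ z ∈ F R J k m, ∃ y, α y = z := by
      intro j
      induction j with
      | zero =>
        intro m hm z hz
        rw [F_eq_bot R J k (by omega)] at hz
        exact ⟨0, by rw [map_zero, (Submodule.mem_bot _).1 hz]⟩
      | succ j ih =>
        intro m hm z hz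
        obtain ⟨y, hy⟩ := ih (m + 1) (by omega) _ (h1 m z hz)
        exact ⟨z - y, by rw [map_sub, hy]; ring⟩
    intro z
    exact h2 (k + 1) 0 (by omega) z (by rw [(isFil_F R J k).zero]; trivial)

end Trunc

end K964.Fil
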